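import Groth.Prelude.Def_W4c4chowquasisplitPn
import Mathlib

/-!
A basis of the truncated algebra adapted to the involution.
-/

set_option autoImplicit false
set_option backward.isDefEq.respectTransparency false

open MvPolynomial QsChow

namespace Groth.Agent.QsPn

/-- `F₂`-algebras -/
class Char2 (A : Type*) [CommRing A] : Prop where
  add_self : ∀ a : A, a + a = 0

theorem char2_of_algebra (A : Type*) [CommRing A] [Algebra (ZMod 2) A] : Char2 A :=
  ⟨fun a => by rw [← two_smul (ZMod 2) a, show (2 : ZMod 2) = 0 from rfl, zero_smul]⟩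

theorem sq_add {A : Type*} [CommRing A] [Char2 A] (a b : A) : (a + b) ^ 2 = a ^ 2 + b ^ 2 := by
  have := Char2.add_self (a * b)
  linear_combination this

theorem pow_two_pow_add {A : Type*} [CommRing A] [Char2 A] (a b : A) (k : ℕ) :
    (a + b) ^ 2 ^ k = a ^ 2 ^ k + b ^ 2 ^ k := by
  induction k with
  | zero => simp
  | succ k ih => rw [pow_succ, pow_mul, ih, sq_add, ← pow_mul, ← pow_mul]

theorem pow_two_pow_sum {A : Type*} [CommRing A] [Char2 A] {ι : Type*} (s : Finset ι) (f : ι → A) :
    (∑ i ∈ s, f i) ^ 2 = ∑ i ∈ s, f i ^ 2 := by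
  classical
  induction s using Finset.induction_on with
  | empty => simp
  | insert a s ha ih => rw [Finset.sum_insert ha, Finset.sum_insert ha, sq_add, ih]

/-- the iterated Artin-Schreier identity -/
theorem pow_two_pow_eq {A : Type*} [CommRing A] [Char2 A] (e y u : A) (h : u = y ^ 2 + e * y) (k : ℕ) :
    y ^ 2 ^ k = e ^ (2 ^ k - 1) * y + ∑ t ∈ Finset.range k, e ^ (2 ^ k - 2 ^ (t + 1)) * u ^ 2 ^ t := by
  induction k with
  | zero => simp
  | succ k ih =>
    have hy : y ^ 2 = u + e * y := by
      have := Char2.add_self (e * y)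
      linear_combination -h - this
    have hk : 1 ≤ 2 ^ k := Nat.one_le_two_pow
    rw [pow_succ 2 k, pow_mul y, ih, sq_add, pow_two_pow_sum, mul_pow, hy, Finset.sum_range_succ']
    simp only [mul_pow, ← pow_mul]
    have e1 : ∀ t ∈ Finset.range k, e ^ ((2 ^ k - 2 ^ (t + 1)) * 2) * u ^ (2 ^ t * 2) =
        e ^ (2 ^ k * 2 - 2 ^ (t + 1 + 1)) * u ^ 2 ^ (t + 1) := fun t _ => by
      rw [Nat.sub_mul, pow_succ 2 (t + 1), pow_succ 2 t]
    rw [Finset.sum_congr rfl e1, show (2 ^ k - 1) * 2 = 2 ^ k * 2 - 2 ^ (0 + 1) by simp; omega,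
      show 2 ^ k * 2 - 1 = 2 ^ k * 2 - 2 ^ (0 + 1) + 1 by simp; omega, pow_succ e]
    simp only [pow_zero, pow_one]
    ring

variable {n : ℕ}

theorem numVars_two (hn : 2 ≤ n) : 2 ≤ numVars n := by
  unfold numVars; omega

theorem bound_one (hn : 2 ≤ n) :
    bound n ⟨1, numVars_two hn⟩ = 2 ^ klog n 2 ∧ 1 ≤ klog n 2 ∧ n ≤ 2 ^ klog n 2 ∧ 2 ^ klog n 2 ≤ 2 * n := by
  refine ⟨by simp [bound], ?_, ?_, ?_⟩
  · exact Nat.le_log_of_pow_le one_lt_two (by simp; omega)
  · have h := Nat.lt_pow_succ_log_self one_lt_two ((2 * n - 1) / (2 * 2 - 3))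
    change _ < 2 ^ (klog n 2 + 1) at h
    simp [pow_succ] at h
    omega
  · have h := Nat.pow_log_le_self 2 (show (2 * n - 1) / (2 * 2 - 3) ≠ 0 by simp; omega)
    change 2 ^ klog n 2 ≤ _ at h
    simp at h
    omega

theorem le_mul_bound (hn : 2 ≤ n) {j : ℕ} (hj : 2 ≤ j) : n ≤ (2 * j - 3) * 2 ^ klog n j := by
  have h : (2 * n - 1) / (2 * j - 3) < 2 ^ klog n j * 2 := by
    have := Nat.lt_pow_succ_log_self one_lt_two ((2 * n - 1) / (2 * j - 3))
    rwa [pow_succ] at this
  rw [Nat.div_lt_iff_lt_mul (by omega)] at h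
  have e : 2 ^ klog n j * 2 * (2 * j - 3) = 2 * ((2 * j - 3) * 2 ^ klog n j) := by ring
  omega

theorem klog_le (n : ℕ) {j : ℕ} (hj : 2 ≤ j) : klog n j ≤ klog n 2 := by
  refine Nat.log_mono_right ?_
  simp only [show 2 * 2 - 3 = 1 by norm_num, Nat.div_one]
  exact Nat.div_le_self _ _

theorem bound_ge_two {i : Fin (numVars n)} (hi : 1 ≤ i.val) : bound n i = 2 ^ klog n (i.val + 1) := by
  simp [bound, Nat.one_le_iff_ne_zero.1 hi]

/-- exponent vectors -/
abbrev Box (n : ℕ) : Type := ∀ i : Fin (numVars n), Fin (bound n i)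

/-- the class of a variable -/
noncomputable def var (n : ℕ) (i : Fin (numVars n)) : QsChow.P n := Ideal.Quotient.mk _ (X i)

theorem eps_eq (i : Fin (numVars n)) : eps n (i.val + 1) = var n i := by
  simp [eps, var]

theorem var_pow_bound (i : Fin (numVars n)) : var n i ^ bound n i = 0 := by
  rw [var, ← map_pow, Ideal.Quotient.eq_zero_iff_mem]
  exact Ideal.subset_span ⟨i, rfl⟩

instance : Char2 (QsChow.P n) := char2_of_algebra _

instance : Char2 (FreeE n ⧸ presIdeal n) := char2_of_algebra _

/-- the lifts of the adapted generators `e`, `u`, `ē_j` -/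
noncomputable abbrev gE (n : ℕ) : QsChow.P n := eps n 1
/-- `ε₂` -/
noncomputable abbrev gY (n : ℕ) : QsChow.P n := eps n 2
/-- `u = ε₂² + ε₁ ε₂` -/
noncomputable abbrev gU (n : ℕ) : QsChow.P n := eps n 2 ^ 2 + eps n 1 * eps n 2

/-- the fixed generators in position `≥ 2` -/
noncomputable def gB (n : ℕ) (i : Fin (numVars n)) : QsChow.P n :=
  if i.val < 2 then 1 else eps n (i.val + 1) + eps n 1 ^ (2 * (i.val + 1) - 4) * eps n 2

/-- the tail monomial -/
noncomputable def tail (n : ℕ) (d : Box n) : QsChow.P n := ∏ i, gB n i ^ (d i).val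

theorem gE_pow (hn : 2 ≤ n) : gE n ^ n = 0 := by
  have h : 0 < numVars n := by have := numVars_two hn; omega
  have := var_pow_bound (n := n) ⟨0, h⟩
  rw [← eps_eq] at this
  simpa [bound] using this

theorem gY_pow (hn : 2 ≤ n) : gY n ^ 2 ^ klog n 2 = 0 := by
  have := var_pow_bound (n := n) ⟨1, numVars_two hn⟩
  rw [← eps_eq, (bound_one hn).1] at this
  simpa using this

theorem gE_pow_mul_eq_zero (hn : 2 ≤ n) {q : ℕ} (hq : n ≤ q) : gE n ^ q = 0 := by
  obtain ⟨r, rfl⟩ := Nat.exists_eq_add_of_le hq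
  rw [pow_add, gE_pow hn, zero_mul]

/-- the relation for `ē_j` -/
theorem gB_pow (hn : 2 ≤ n) (i : Fin (numVars n)) (hi : 2 ≤ i.val) :
    gB n i ^ 2 ^ klog n (i.val + 1) =
      gE n ^ ((2 * (i.val + 1) - 4) * 2 ^ klog n (i.val + 1)) * gY n ^ 2 ^ klog n (i.val + 1) := by
  rw [gB, if_neg (by omega), pow_two_pow_add, mul_pow, ← pow_mul, eps_eq,
    ← bound_ge_two (by omega : 1 ≤ i.val), var_pow_bound, zero_add]

theorem u_top (hn : 2 ≤ n) : gU n ^ 2 ^ (klog n 2 - 1) =
    gE n ^ (2 ^ klog n 2 - 1) * gY n +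
      ∑ t ∈ Finset.range (klog n 2 - 1), gE n ^ (2 ^ klog n 2 - 2 ^ (t + 1)) * gU n ^ 2 ^ t := by
  have h := pow_two_pow_eq (gE n) (gY n) (gU n) rfl (klog n 2)
  obtain ⟨k, hk⟩ : ∃ k, klog n 2 = k + 1 := ⟨klog n 2 - 1, by have := (bound_one hn).2.1; omega⟩
  rw [gY_pow hn, hk, Finset.sum_range_succ, Nat.sub_self, pow_zero, one_mul] at h
  rw [hk, Nat.add_sub_cancel]
  have h2 := Char2.add_self (gU n ^ 2 ^ k)
  linear_combination h2 + h

/-- the low monomials -/
noncomputable def low (n q a : ℕ) : QsChow.P n := gE n ^ q * gU n ^ (a / 2) * gY n ^ (a % 2)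

/-- the span of the low monomials -/
noncomputable def W (n : ℕ) : Submodule (ZMod 2) (QsChow.P n) :=
  Submodule.span (ZMod 2) {x | ∃ q a, q < n ∧ a < 2 ^ klog n 2 ∧ x = low n q a}

theorem low_mem {q a : ℕ} (ha : a < 2 ^ klog n 2) (hn : 2 ≤ n) : low n q a ∈ W n := by
  by_cases hq : q < n
  · exact Submodule.subset_span ⟨q, a, hq, ha, rfl⟩
  · simp only [low, gE_pow_mul_eq_zero hn (not_lt.1 hq), zero_mul]
    exact zero_mem _

theorem mul_mem_of {g : QsChow.P n} (h : ∀ q a, q < n → a < 2 ^ klog n 2 → g * low n q a ∈ W n)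
    {x : QsChow.P n} (hx : x ∈ W n) : g * x ∈ W n := by
  induction hx using Submodule.span_induction with
  | mem x hx => obtain ⟨q, a, hq, ha, rfl⟩ := hx; exact h q a hq ha
  | zero => simp
  | add x y _ _ hx hy => rw [mul_add]; exact add_mem hx hy
  | smul c x _ hx => rw [mul_smul_comm]; exact Submodule.smul_mem _ c hx

theorem gE_mul_mem (hn : 2 ≤ n) {x : QsChow.P n} (hx : x ∈ W n) : gE n * x ∈ W n :=
  mul_mem_of (fun q a _ ha => by
    rw [show gE n * low n q a = low n (q + 1) a by simp only [low]; ring]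
    exact low_mem ha hn) hx

theorem gE_pow_mul_mem (hn : 2 ≤ n) (q : ℕ) {x : QsChow.P n} (hx : x ∈ W n) : gE n ^ q * x ∈ W n := by
  induction q with
  | zero => simpa
  | succ q ih => rw [pow_succ', mul_assoc]; exact gE_mul_mem hn ih

theorem gU_pow_mem (hn : 2 ≤ n) {c : ℕ} (hc : c ≤ 2 ^ (klog n 2 - 1)) : gU n ^ c ∈ W n := by
  obtain ⟨k, hk⟩ : ∃ k, klog n 2 = k + 1 := ⟨klog n 2 - 1, by have := (bound_one hn).2.1; omega⟩
  have hlt : ∀ c < 2 ^ k, gU n ^ c ∈ W n := fun c hc => by
    have := low_mem (n := n) (q := 0) (a := 2 * c) (by rw [hk, pow_succ]; omega) hn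
    simpa [low] using this
  rw [hk, Nat.add_sub_cancel] at hc
  rcases lt_or_eq_of_le hc with hc | rfl
  · exact hlt c hc
  · have h := u_top hn
    rw [hk, Nat.add_sub_cancel] at h
    rw [h]
    refine add_mem ?_ (Submodule.sum_mem _ fun t ht => gE_pow_mul_mem hn _ (hlt _ ?_))
    · have := low_mem (n := n) (q := 2 ^ (k + 1) - 1) (a := 1) (by rw [hk, pow_succ]; have := Nat.one_le_two_pow (n := k); omega) hn
      simpa [low] using this
    · exact Nat.pow_lt_pow_right one_lt_two (Finset.mem_range.1 ht)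

theorem gY_mul_mem (hn : 2 ≤ n) {x : QsChow.P n} (hx : x ∈ W n) : gY n * x ∈ W n :=
  mul_mem_of (fun q a _ ha => by
    obtain ⟨k, hk⟩ : ∃ k, klog n 2 = k + 1 := ⟨klog n 2 - 1, by have := (bound_one hn).2.1; omega⟩
    rw [hk, pow_succ] at ha
    rcases Nat.mod_two_eq_zero_or_one a with h | h
    · rw [show gY n * low n q a = low n q (a + 1) by
        simp only [low, h, show (a + 1) / 2 = a / 2 by omega, show (a + 1) % 2 = 1 by omega]; ring]
      exact low_mem (by rw [hk, pow_succ]; omega) hn
    · have e : gY n * low n q a = low n (q + 1) a + gE n ^ q * gU n ^ (a / 2 + 1) := by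
        simp only [low, h, pow_one, gU]
        have := Char2.add_self (gE n ^ (q + 1) * gU n ^ (a / 2) * gY n)
        simp only [gU] at this
        linear_combination -this
      rw [e]
      exact add_mem (low_mem (by rw [hk, pow_succ]; omega) hn)
        (gE_pow_mul_mem hn q (gU_pow_mem hn (by rw [hk, Nat.add_sub_cancel]; omega)))) hx

theorem gU_mul_mem (hn : 2 ≤ n) {x : QsChow.P n} (hx : x ∈ W n) : gU n * x ∈ W n := by
  rw [show gU n * x = gY n * (gY n * x) + gE n * (gY n * x) by simp only [gU]; ring]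
  exact add_mem (gY_mul_mem hn (gY_mul_mem hn hx)) (gE_mul_mem hn (gY_mul_mem hn hx))

theorem one_mem (hn : 2 ≤ n) : (1 : QsChow.P n) ∈ W n := by
  simpa [low] using low_mem (n := n) (q := 0) (a := 0) (by positivity) hn

theorem mono_mem (hn : 2 ≤ n) (q a : ℕ) : gE n ^ q * gY n ^ a ∈ W n := by
  refine gE_pow_mul_mem hn q ?_
  induction a with
  | zero => simpa using one_mem hn
  | succ a ih => rw [pow_succ']; exact gY_mul_mem hn ih

/-- the adapted basis vectors -/
noncomputable def vec (n : ℕ) (d : Box n) (q a : ℕ) : QsChow.P n := low n q a * tail n d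

/-- the family -/
noncomputable def fam (hn : 2 ≤ n) (d : Box n) : QsChow.P n :=
  vec n d (d ⟨0, by have := numVars_two hn; omega⟩).val (d ⟨1, numVars_two hn⟩).val

/-- change of the first two exponents -/
def setLow (hn : 2 ≤ n) (d : Box n) (q a : ℕ) (hq : q < n) (ha : a < 2 ^ klog n 2) : Box n := fun i =>
  if h : i.val = 0 then ⟨q, by simpa [bound, h] using hq⟩
  else if h1 : i.val = 1 then ⟨a, by simpa [bound, h, h1] using ha⟩
  else d i

theorem fam_setLow (hn : 2 ≤ n) (d : Box n) (q a : ℕ) (hq : q < n) (ha : a < 2 ^ klog n 2) :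
    fam hn (setLow hn d q a hq ha) = vec n d q a := by
  have h0 : ((setLow hn d q a hq ha) ⟨0, by have := numVars_two hn; omega⟩).val = q := by simp [setLow]
  have h1 : ((setLow hn d q a hq ha) ⟨1, numVars_two hn⟩).val = a := by simp [setLow]
  rw [fam, h0, h1, vec, vec]
  congr 1
  refine Finset.prod_congr rfl fun i _ => ?_
  by_cases hi : i.val < 2
  · simp [gB, hi]
  · simp [setLow, show i.val ≠ 0 by omega, show i.val ≠ 1 by omega]

/-- the change of variables -/
theorem fam_span (hn : 2 ≤ n) : ⊤ ≤ Submodule.span (ZMod 2) (Set.range (fam hn)) := by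
  classical
  let S := Submodule.span (ZMod 2) (Set.range (fam hn))
  let g : Fin (numVars n) → QsChow.P n := fun i =>
    if i.val = 0 then gE n else if i.val = 1 then gY n else gB n i
  have hmon : ∀ d : Fin (numVars n) →₀ ℕ, aeval g (monomial d (1 : ZMod 2)) ∈ S := by
    intro d
    rw [aeval_monomial, map_one, one_mul, Finsupp.prod_fintype _ _ (fun _ => pow_zero _)]
    have hb : ∀ i : Fin (numVars n), 0 < bound n i := fun i => by
      rcases Nat.eq_zero_or_pos i.val with h | h
      · simp [bound, h]; omega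
      · rw [bound_ge_two h]; positivity
    let r : Box n := fun i => ⟨d i % bound n i, Nat.mod_lt _ (hb i)⟩
    have hWB : ∀ i, ∀ w ∈ W n, g i ^ (if i.val < 2 then d i else bound n i * (d i / bound n i)) * w ∈ W n := by
      intro i w hw
      have key : ∀ (z : QsChow.P n), (∀ w ∈ W n, z * w ∈ W n) → ∀ (m : ℕ) (w : QsChow.P n), w ∈ W n → z ^ m * w ∈ W n := by
        intro z hz m
        induction m with
        | zero => intro w hw; simpa using hw
        | succ m ih => intro w hw; rw [pow_succ, mul_assoc]; exact ih _ (hz w hw)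
      by_cases h0 : i.val = 0
      · simp only [g, h0, if_true]
        exact key _ (fun w hw => gE_mul_mem hn hw) _ w hw
      by_cases h1 : i.val = 1
      · simp only [g, h1, if_true]
        exact key _ (fun w hw => gY_mul_mem hn hw) _ w hw
      · simp only [g, h0, h1, if_false, show ¬ i.val < 2 by omega, pow_mul]
        refine key _ (fun w hw => ?_) _ w hw
        rw [bound_ge_two (by omega : 1 ≤ i.val), gB_pow hn i (by omega), mul_assoc]
        exact gE_pow_mul_mem hn _ (key _ (fun w hw => gY_mul_mem hn hw) _ w hw)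
    have hprod : ∀ T : Finset (Fin (numVars n)),
        (∏ i ∈ T, g i ^ (if i.val < 2 then d i else bound n i * (d i / bound n i))) ∈ W n := by
      intro T
      induction T using Finset.induction_on with
      | empty => simpa using one_mem hn
      | insert a T ha ih => rw [Finset.prod_insert ha]; exact hWB a _ ih
    have e : ∏ i, g i ^ d i =
        (∏ i, g i ^ (if i.val < 2 then d i else bound n i * (d i / bound n i))) * tail n r := by
      rw [tail, ← Finset.prod_mul_distrib]
      refine Finset.prod_congr rfl fun i _ => ?_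
      by_cases hi : i.val < 2
      · simp [gB, hi]
      · simp only [g, hi, if_false, show i.val ≠ 0 by omega, show i.val ≠ 1 by omega, r]
        rw [← pow_add, Nat.div_add_mod]
    rw [e]
    refine Submodule.span_induction (p := fun w _ => w * tail n r ∈ S) ?_ ?_ ?_ ?_ (hprod Finset.univ)
    · rintro _ ⟨q, a, hq, ha, rfl⟩
      exact Submodule.subset_span ⟨setLow hn r q a hq ha, fam_setLow hn r q a hq ha⟩
    · simp
    · exact fun x y _ _ hx hy => by rw [add_mul]; exact add_mem hx hy
    · exact fun c x _ hx => by rw [smul_mul_assoc]; exact Submodule.smul_mem _ c hx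
  intro x _
  have hsur : ∃ f : FreeP n, aeval g f = x := by
    obtain ⟨f, rfl⟩ := Ideal.Quotient.mk_surjective x
    refine ⟨aeval (fun i : Fin (numVars n) => if i.val < 2 then (X i : FreeP n) else
      X i + X ⟨0, by have := numVars_two hn; omega⟩ ^ (2 * (i.val + 1) - 4) * X ⟨1, numVars_two hn⟩) f, ?_⟩
    rw [← AlgHom.comp_apply, comp_aeval]
    change aeval _ f = Ideal.Quotient.mkₐ (ZMod 2) (truncIdeal n) f
    refine DFunLike.congr_fun (algHom_ext fun i => ?_) f
    rw [aeval_X]
    change _ = var n i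
    have e0 : eps n 1 = var n ⟨0, by have := numVars_two hn; omega⟩ := eps_eq ⟨0, by have := numVars_two hn; omega⟩
    have e1 : eps n 2 = var n ⟨1, numVars_two hn⟩ := eps_eq ⟨1, numVars_two hn⟩
    by_cases h0 : i.val = 0
    · rw [if_pos (by omega), aeval_X]
      simp only [g, h0, if_true, gE, e0]
      congr 1
      exact Fin.ext h0.symm
    by_cases h1 : i.val = 1
    · rw [if_pos (by omega), aeval_X]
      simp only [g, h1, if_true, gY, e1]
      rw [if_neg one_ne_zero]
      congr 1
      exact Fin.ext h1.symm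
    · rw [if_neg (by omega), map_add, map_mul, map_pow, aeval_X, aeval_X, aeval_X]
      simp only [g, h0, h1, if_false, if_true, gE, gY, gB, show ¬ i.val < 2 by omega, one_ne_zero]
      rw [eps_eq, add_assoc, Char2.add_self, add_zero]
  obtain ⟨f, rfl⟩ := hsur
  induction f using MvPolynomial.induction_on' with
  | monomial d c =>
    rw [show monomial d c = c • monomial d (1 : ZMod 2) by rw [smul_monomial, smul_eq_mul, mul_one], map_smul]
    exact Submodule.smul_mem _ c (hmon d)
  | add p q hp hq => rw [map_add]; exact add_mem (hp trivial) (hq trivial)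

theorem truncIdeal_coeff {f : FreeP n} (hf : f ∈ truncIdeal n) (d : Fin (numVars n) →₀ ℕ)
    (hd : ∀ i, d i < bound n i) : coeff d f = 0 := by
  classical
  induction hf using Submodule.span_induction generalizing d with
  | mem x hx =>
    obtain ⟨i, rfl⟩ := hx
    show coeff d ((X i : FreeP n) ^ bound n i) = 0
    rw [show (X i : FreeP n) ^ bound n i = monomial (Finsupp.single i (bound n i)) 1 from X_pow_eq_monomial,
      coeff_monomial, if_neg]
    intro e
    have := hd i
    rw [← e, Finsupp.single_eq_same] at this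
    omega
  | zero => simp
  | add x y _ _ hx hy => rw [coeff_add, hx d hd, hy d hd, add_zero]
  | smul a x _ hx =>
    rw [smul_eq_mul, coeff_mul]
    refine Finset.sum_eq_zero fun p hp => ?_
    rw [hx p.2 (fun i => lt_of_le_of_lt ?_ (hd i)), mul_zero]
    rw [← Finset.HasAntidiagonal.mem_antidiagonal.1 hp]
    simp

theorem card_le_finrank [Module.Finite (ZMod 2) (QsChow.P n)] :
    Fintype.card (Box n) ≤ Module.finrank (ZMod 2) (QsChow.P n) := by
  classical
  let e : Box n → (Fin (numVars n) →₀ ℕ) := fun d => Finsupp.equivFunOnFinite.symm fun i => (d i).val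
  have li : LinearIndependent (ZMod 2)
      (fun d : Box n => (Ideal.Quotient.mk (truncIdeal n) (monomial (e d) 1) : QsChow.P n)) := by
    rw [Fintype.linearIndependent_iff]
    intro c hc d
    have hm : (∑ b, c b • monomial (e b) (1 : ZMod 2) : FreeP n) ∈ truncIdeal n := by
      rw [← Ideal.Quotient.eq_zero_iff_mem]
      rw [← hc, map_sum]
      rfl
    have h := truncIdeal_coeff hm (e d) (fun i => by simp [e])
    rw [coeff_sum] at h
    simp only [coeff_smul, coeff_monomial, smul_eq_mul, mul_ite, mul_one, mul_zero] at h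
    have einj : ∀ b, e b = e d ↔ b = d := fun b => by
      refine ⟨fun hb => funext fun i => Fin.ext ?_, fun hb => hb ▸ rfl⟩
      simpa [e] using DFunLike.congr_fun hb i
    simpa [einj] using h
  exact li.fintype_card_le_finrank

theorem fam_independent (hn : 2 ≤ n) : LinearIndependent (ZMod 2) (fam hn) := by
  haveI : Module.Finite (ZMod 2) (QsChow.P n) :=
    ⟨⟨(Set.finite_range (fam hn)).toFinset, by
      rw [Set.Finite.coe_toFinset]; exact top_unique (fam_span hn)⟩⟩
  refine linearIndependent_of_top_le_span_of_card_eq_finrank (fam_span hn) (le_antisymm card_le_finrank ?_)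
  have := finrank_range_le_card (R := ZMod 2) (b := fam hn)
  rwa [Set.finrank, top_unique (fam_span hn), finrank_top] at this

end Groth.Agent.QsPn
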