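import Groth.Agent.QsPn.Pres
import Groth.Prelude.Def_W4c4chowquasisplitPn2

/-!
The three explicit presentations.
-/

set_option autoImplicit false
set_option backward.isDefEq.respectTransparency false

open MvPolynomial QsChow

namespace Groth.Agent.QsPn

variable {n : ℕ}

instance : Char2 (FreeE n) := char2_of_algebra _

instance : Char2 (FreeP n) := char2_of_algebra _

theorem add_mem_iff_char2 {J : Ideal (FreeE n)} {a b : FreeE n} (hb : b ∈ J) : a + b ∈ J ↔ a ∈ J :=
  Ideal.add_mem_iff_left J hb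

theorem klog_spec (hn : 2 ≤ n) {j : ℕ} (hj3 : 3 ≤ j) (hj : j ≤ numVars n) :
    1 ≤ klog n j ∧ 2 ^ klog n j * (2 * j - 3) ≤ 2 * n - 1 ∧ 2 * n - 1 < 2 ^ (klog n j + 1) * (2 * j - 3) := by
  have hd : 2 * (2 * j - 3) ≤ 2 * n - 1 := by unfold numVars at hj; omega
  have hq : 2 ≤ (2 * n - 1) / (2 * j - 3) := (Nat.le_div_iff_mul_le (by omega)).2 hd
  refine ⟨Nat.le_log_of_pow_le one_lt_two (by simpa using hq), ?_, ?_⟩
  · exact (Nat.le_div_iff_mul_le (by omega)).1 (Nat.pow_log_le_self 2 (by omega))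
  · exact (Nat.div_lt_iff_lt_mul (by omega)).1 (Nat.lt_pow_succ_log_self one_lt_two _)

theorem kprime_eq (hn : 2 ≤ n) {j : ℕ} (hj3 : 3 ≤ j) (hj : j ≤ numVars n)
    (hne : ∀ p : ℕ, 2 ^ p * (2 * j - 3) ≠ 2 * n) : kprime n j = klog n j := by
  obtain ⟨_, h2, h3⟩ := klog_spec hn hj3 hj
  rw [kprime, if_neg (by omega), if_neg (by omega)]
  apply Nat.log_eq_of_pow_le_of_lt_pow
  · exact (Nat.le_div_iff_mul_le (by omega)).2 (by omega)
  · refine (Nat.div_lt_iff_lt_mul (by omega)).2 ?_
    have := hne (klog n j + 1)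
    omega

theorem kprime_two (hn : 2 ≤ n) (hne : ∀ p : ℕ, n ≠ 2 ^ p) : kprime n 2 = klog n 2 - 1 := by
  obtain ⟨_, h1, h2, h3⟩ := bound_one hn
  obtain ⟨k, hk⟩ : ∃ k, klog n 2 = k + 1 := ⟨klog n 2 - 1, by omega⟩
  rw [hk, pow_succ] at h2 h3
  rw [hk, Nat.add_sub_cancel, kprime, if_neg (by omega), if_pos rfl]
  refine Nat.log_eq_of_pow_le_of_lt_pow (by omega) ?_
  have := hne (k + 1)
  rw [pow_succ] at this ⊢
  omega

theorem exp_pos_of (hn : 2 ≤ n) {j : ℕ} (hj3 : 3 ≤ j) (hne : ∀ p : ℕ, 2 ^ p * (2 * j - 3) ≠ 2 * n) :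
    0 < (2 * j - 3) * 2 ^ klog n j - n := by
  have h := le_mul_bound hn (by omega : 2 ≤ j)
  have := hne (klog n j + 1)
  rw [pow_succ, mul_comm (2 ^ klog n j) 2, mul_assoc, mul_comm (2 ^ klog n j)] at this
  omega

/-- the ideal `presIdeal + (e₁^m)` -/
noncomputable def Jm (n m : ℕ) : Ideal (FreeE n) := presIdeal n ⊔ Ideal.span {evar n 1 ^ m}

theorem pow_mul_mem_Jm {m p : ℕ} (h : m ≤ p) (r : FreeE n) : evar n 1 ^ p * r ∈ Jm n m := by
  obtain ⟨s, rfl⟩ := Nat.exists_eq_add_of_le h
  rw [pow_add, mul_assoc]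
  exact Ideal.mem_sup_right (Ideal.mem_span_singleton.2 (dvd_mul_right _ _))

theorem hrel_mem (i : Fin (numVars n)) : hrel n (i.val + 1) ∈ presIdeal n :=
  Ideal.subset_span (.inr ⟨i, rfl⟩)

theorem e1x_mem {p : ℕ} (hp : 0 < p) : evar n 1 ^ p * xvar n ∈ presIdeal n := by
  obtain ⟨q, rfl⟩ : ∃ q, p = q + 1 := ⟨p - 1, by omega⟩
  rw [pow_succ, mul_assoc]
  exact Ideal.mul_mem_left _ _ (Ideal.subset_span (.inl (by simp)))

section
variable {τ : QsChow.P n →ₐ[ZMod 2] QsChow.P n} (hn : 2 ≤ n) (hτ1 : τ (eps n 1) = eps n 1)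
  (hτ : ∀ j : ℕ, 2 ≤ j → j ≤ numVars n → τ (eps n j) = eps n j + eps n 1 ^ (2 * j - 3))
include hn hτ1 hτ

theorem fixed_phi (f : FreeE n) : τ (phi n f) = phi n f := by
  have h : phi n f ∈ (phi n).range := ⟨f, rfl⟩
  rw [range_phi hn hτ1 hτ] at h
  exact h

theorem exists_phi {z : QsChow.P n} (hz : τ z = z) : ∃ f, phi n f = z := by
  have h : z ∈ AlgHom.equalizer τ (AlgHom.id (ZMod 2) (QsChow.P n)) := hz
  rw [← range_phi hn hτ1 hτ] at h
  exact h

theorem mem_Jm_iff (m : ℕ) (q : FreeE n) :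
    (∃ w : QsChow.P n, τ w = w ∧ phi n q = eps n 1 ^ m * w) ↔ q ∈ Jm n m := by
  constructor
  · rintro ⟨w, hw, e⟩
    obtain ⟨r, rfl⟩ := exists_phi hn hτ1 hτ hw
    have h : q - evar n 1 ^ m * r ∈ presIdeal n := by
      rw [← ker_phi hn, RingHom.mem_ker, map_sub, map_mul, map_pow, phi_e1 hn, e, sub_self]
    have := add_mem (Ideal.mem_sup_left (T := Ideal.span {evar n 1 ^ m}) h)
      (Ideal.mem_sup_right (S := presIdeal n) (Ideal.mem_span_singleton.2 (dvd_mul_right (evar n 1 ^ m) r)))
    rwa [sub_add_cancel] at this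
  · intro h
    obtain ⟨a, ha, b, hb, rfl⟩ := Submodule.mem_sup.1 h
    obtain ⟨r, rfl⟩ := Ideal.mem_span_singleton.1 hb
    refine ⟨phi n r, fixed_phi hn hτ1 hτ r, ?_⟩
    rw [map_add, show phi n a = 0 from presIdeal_le hn ha, zero_add, map_mul, map_pow, phi_e1 hn]

theorem odd_case (hodd : Odd n) (q : FreeE n) :
    (∃ w : QsChow.P n, τ w = w ∧ phi n q = eps n 1 * w) ↔ q ∈ oddIdeal n := by
  obtain ⟨c, hc⟩ := hodd
  have key : Jm n 1 = oddIdeal n := by
    have hnp : ∀ p : ℕ, n ≠ 2 ^ p := fun p h => by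
      rcases p with _ | p
      · simp at h; omega
      · rw [pow_succ] at h; omega
    have ha : kprime n 1 = 0 := by
      rw [kprime, if_pos rfl]; exact padicValNat.eq_zero_of_not_dvd (by omega)
    have hj2 : ∀ i : Fin (numVars n), i.val = 1 →
        hrel n (i.val + 1) + evar n (i.val + 1) ^ 2 ^ kprime n (i.val + 1) ∈
          Ideal.span ({evar n 1} : Set (FreeE n)) := by
      intro i hi
      rw [hi, show 1 + 1 = 2 from rfl, kprime_two hn hnp, hrel, if_pos rfl]
      obtain ⟨_, h1, h2, h3⟩ := bound_one hn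
      obtain ⟨k, hk⟩ : ∃ k, klog n 2 = k + 1 := ⟨klog n 2 - 1, by omega⟩
      have := hnp (klog n 2)
      rw [sPoly, hk, Finset.sum_range_succ, Nat.sub_self, pow_zero, one_mul, Nat.add_sub_cancel,
        ← add_assoc (evar n 1 ^ _ * xvar n), add_assoc, Char2.add_self, add_zero]
      refine add_mem (Ideal.mul_mem_right _ _ (Ideal.pow_mem_of_mem _ (Ideal.mem_span_singleton_self _) _ ?_))
        (Submodule.sum_mem _ fun t ht =>
          Ideal.mul_mem_right _ _ (Ideal.pow_mem_of_mem _ (Ideal.mem_span_singleton_self _) _ ?_))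
      · rw [← hk]; omega
      · have := Nat.pow_lt_pow_right one_lt_two (show t + 1 < k + 1 by have := Finset.mem_range.1 ht; omega)
        omega
    have hj3 : ∀ i : Fin (numVars n), 2 ≤ i.val →
        hrel n (i.val + 1) + evar n (i.val + 1) ^ 2 ^ kprime n (i.val + 1) ∈
          Ideal.span ({evar n 1} : Set (FreeE n)) := by
      intro i hi
      obtain ⟨hk1, hk2, hk3⟩ := klog_spec hn (by omega : 3 ≤ i.val + 1) i.isLt
      have hne : ∀ p : ℕ, 2 ^ p * (2 * (i.val + 1) - 3) ≠ 2 * n := fun p h => by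
        rcases p with _ | _ | p
        · omega
        · have := Nat.one_lt_two_pow (show klog n (i.val + 1) ≠ 0 by omega)
          have hh : 2 * (2 * (i.val + 1) - 3) ≤ 2 ^ klog n (i.val + 1) * (2 * (i.val + 1) - 3) :=
            Nat.mul_le_mul_right _ (by omega)
          omega
        · have h' : 2 * (2 * (2 ^ p * (2 * (i.val + 1) - 3))) = 2 * n := by rw [← h]; ring
          omega
      rw [kprime_eq hn (by omega) i.isLt hne, hrel, if_neg (by omega), if_pos ⟨by omega, i.isLt⟩,
        add_comm, ← add_assoc, ← add_assoc, Char2.add_self, zero_add]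
      refine add_mem (Ideal.mul_mem_right _ _ (Ideal.pow_mem_of_mem _ (Ideal.mem_span_singleton_self _) _ ?_))
        (Ideal.mul_mem_right _ _ (Ideal.pow_mem_of_mem _ (Ideal.mem_span_singleton_self _) _ ?_))
      · exact exp_pos_of hn (by omega) hne
      · exact Nat.mul_pos (by omega) (by positivity)
    apply le_antisymm
    · have hE : Ideal.span ({evar n 1} : Set (FreeE n)) ≤ oddIdeal n :=
        Ideal.span_mono (by simp)
      refine sup_le (Ideal.span_le.2 ?_) (by rw [pow_one]; exact hE)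
      rintro f (hf | ⟨i, rfl⟩)
      · have he : evar n 1 ∈ oddIdeal n := Ideal.subset_span (.inl (by simp))
        rcases hf with rfl | rfl | rfl
        · exact Ideal.pow_mem_of_mem _ he n (by omega)
        · exact Ideal.mul_mem_right _ _ he
        · exact Ideal.subset_span (.inl (by simp))
      · rcases Nat.lt_or_ge i.val 1 with h | h
        · simp [hrel, show i.val = 0 by omega]
        · have hg : evar n (i.val + 1) ^ 2 ^ kprime n (i.val + 1) ∈ oddIdeal n := Ideal.subset_span (.inr ⟨i, rfl⟩)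
          refine (add_mem_iff_char2 hg).1 (hE ?_)
          rcases Nat.lt_or_ge i.val 2 with h' | h'
          · exact hj2 i (by omega)
          · exact hj3 i h'
    · rw [oddIdeal, Ideal.span_le]
      have hE : Ideal.span ({evar n 1} : Set (FreeE n)) ≤ Jm n 1 := by
        rw [Jm, pow_one]; exact le_sup_right
      rintro f (hf | ⟨i, rfl⟩)
      · rcases hf with rfl | rfl
        · exact hE (Ideal.mem_span_singleton_self _)
        · exact Ideal.mem_sup_left (Ideal.subset_span (.inl (by simp)))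
      · rcases Nat.lt_or_ge i.val 1 with h | h
        · simp only [SetLike.mem_coe, show i.val = 0 by omega, ha, pow_zero, pow_one]
          exact hE (Ideal.mem_span_singleton_self _)
        · have hg : hrel n (i.val + 1) ∈ Jm n 1 := Ideal.mem_sup_left (hrel_mem i)
          refine (add_mem_iff_char2 hg).1 (hE ?_)
          rw [add_comm]
          rcases Nat.lt_or_ge i.val 2 with h' | h'
          · exact hj2 i (by omega)
          · exact hj3 i h'
  rw [← key, ← mem_Jm_iff hn hτ1 hτ 1 q, pow_one]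

end

/-- the inclusion of `F₂[e]` -/
noncomputable def iota (n : ℕ) : FreeP n →ₐ[ZMod 2] FreeE n := rename some

theorem iota_evarE (j : ℕ) : iota n (evarE n j) = evar n j := by
  rw [evarE, evar]
  split_ifs <;> simp [iota]

theorem phi_iota (q : FreeP n) : phi n (iota n q) = psi n q := by
  rw [iota, phi, psi, aeval_rename]; rfl

/-- elimination of `x` -/
noncomputable def sigma (v : FreeP n) : FreeE n →ₐ[ZMod 2] FreeP n :=
  aeval (fun o => o.elim v X)

theorem sigma_x (v : FreeP n) : sigma v (xvar n) = v := by simp [sigma, xvar]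

theorem sigma_evar (v : FreeP n) (j : ℕ) : sigma v (evar n j) = evarE n j := by
  rw [evarE, evar]
  split_ifs <;> simp [sigma]

theorem sigma_iota (v : FreeP n) (q : FreeP n) : sigma v (iota n q) = q := by
  rw [sigma, iota, aeval_rename]
  exact aeval_X_left_apply q

theorem elim_sub_mem (v : FreeP n) {J : Ideal (FreeE n)} (h : iota n v + xvar n ∈ J) (f : FreeE n) :
    iota n (sigma v f) + f ∈ J := by
  induction f using MvPolynomial.induction_on with
  | C a => simp [← algebraMap_eq, CharTwo.add_self_eq_zero]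
  | add p q hp hq =>
    rw [map_add, map_add, add_add_add_comm]
    exact add_mem hp hq
  | mul_X p o hp =>
    have hX : iota n (sigma v (X o)) + X o ∈ J := by
      rcases o with _ | i
      · rw [show (X none : FreeE n) = xvar n from rfl, sigma_x]; exact h
      · simp [sigma, iota, CharTwo.add_self_eq_zero]
    rw [map_mul, map_mul]
    have e : iota n (sigma v p) * iota n (sigma v (X o)) + p * X o =
        (iota n (sigma v p) + p) * iota n (sigma v (X o)) + p * (iota n (sigma v (X o)) + X o) := by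
      have h2 : p * iota n (sigma v (X o)) + p * iota n (sigma v (X o)) = 0 := CharTwo.add_self_eq_zero _
      linear_combination -h2
    rw [e]
    exact add_mem (Ideal.mul_mem_right _ _ hp) (Ideal.mul_mem_left _ _ hX)

theorem iota_mem_iff {J : Ideal (FreeE n)} {K : Ideal (FreeP n)} (v : FreeP n)
    (h1 : J.map (sigma v) ≤ K) (h2 : K.map (iota n) ≤ J) (q : FreeP n) : iota n q ∈ J ↔ q ∈ K :=
  ⟨fun h => by simpa [sigma_iota] using h1 (Ideal.mem_map_of_mem _ h), fun h => h2 (Ideal.mem_map_of_mem _ h)⟩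

section
variable {τ : QsChow.P n →ₐ[ZMod 2] QsChow.P n} (hn : 2 ≤ n) (hτ1 : τ (eps n 1) = eps n 1)
  (hτ : ∀ j : ℕ, 2 ≤ j → j ≤ numVars n → τ (eps n j) = eps n j + eps n 1 ^ (2 * j - 3))
include hn hτ1 hτ

theorem even_case (ha : 1 ≤ twoExp n) (hne : n ≠ 2 ^ twoExp n) :
    (∀ q : FreeP n, (∃ w : QsChow.P n, τ w = w ∧ psi n q = eps n 1 ^ 2 ^ twoExp n * w) ↔ q ∈ evenIdeal n) ∧
      (∀ z : QsChow.P n, τ z = z → ∃ q : FreeP n, ∃ w : QsChow.P n,
        τ w = w ∧ z = psi n q + eps n 1 ^ 2 ^ twoExp n * w) := by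
  set a := twoExp n with hadef
  obtain ⟨m, hm⟩ : ∃ m, n = 2 ^ a * m := pow_padicValNat_dvd
  have hmodd : m % 2 = 1 := by
    by_contra h
    obtain ⟨r, hr⟩ : 2 ∣ m := by omega
    exact pow_succ_padicValNat_not_dvd (p := 2) (n := n) (by omega)
      ⟨r, hm.trans (by rw [hr, show padicValNat 2 n = a from rfl, pow_succ]; ring)⟩
  have hm3 : 3 ≤ m := by
    by_contra h
    obtain rfl : m = 1 := by omega
    exact hne (by rw [hm, mul_one])
  have hA : 2 ≤ 2 ^ a := by
    calc 2 = 2 ^ 1 := rfl
      _ ≤ 2 ^ a := Nat.pow_le_pow_right two_pos ha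
  have hn3 : 3 * 2 ^ a ≤ n := by rw [hm, mul_comm 3]; exact Nat.mul_le_mul_left _ hm3
  have hl : lIdx n = (m + 3) / 2 := by
    rw [lIdx, ← hadef]
    conv_lhs => rw [hm, Nat.mul_div_cancel_left _ (by omega : 0 < 2 ^ a)]
  have hl3 : 2 * lIdx n - 3 = m := by omega
  have hlv : 3 ≤ lIdx n ∧ lIdx n ≤ numVars n := by
    have : 2 * m ≤ n := by rw [hm]; exact Nat.mul_le_mul_right _ hA
    unfold numVars; omega
  have hpow : ∀ j p : ℕ, 3 ≤ j → j ≠ lIdx n → 2 ^ p * (2 * j - 3) ≠ 2 * n := by
    intro j p hj hjl h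
    have h' : 2 ^ p * (2 * j - 3) = 2 ^ (a + 1) * m := by rw [h, hm, pow_succ]; ring
    have hcop : ∀ (x y : ℕ) (b c : ℕ), x % 2 = 1 → y % 2 = 1 → 2 ^ b * x = 2 ^ c * y → x = y := by
      intro x y b c hx hy e
      rcases le_total b c with hbc | hbc
      · obtain ⟨d, rfl⟩ := Nat.exists_eq_add_of_le hbc
        rw [pow_add, mul_assoc] at e
        have e' := Nat.eq_of_mul_eq_mul_left (by positivity) e
        rcases d with _ | d
        · simpa using e'
        · rw [pow_succ] at e'; rw [e', mul_comm (2 ^ d) 2, mul_assoc] at hx; omega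
      · obtain ⟨d, rfl⟩ := Nat.exists_eq_add_of_le hbc
        rw [pow_add, mul_assoc] at e
        have e' := (Nat.eq_of_mul_eq_mul_left (by positivity) e).symm
        rcases d with _ | d
        · simpa using e'.symm
        · rw [pow_succ] at e'; rw [e', mul_comm (2 ^ d) 2, mul_assoc] at hy; omega
    have := hcop _ _ _ _ (by omega) hmodd h'
    omega
  have hnp : ∀ p : ℕ, n ≠ 2 ^ p := fun p h => by
    rcases le_total p a with hp | hp
    · have := Nat.pow_le_pow_right two_pos hp; omega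
    · obtain ⟨d, rfl⟩ := Nat.exists_eq_add_of_le hp
      rw [h, pow_add] at hm
      have hm' := (Nat.eq_of_mul_eq_mul_left (by omega) hm).symm
      rcases d with _ | d
      · simp at hm'; omega
      · rw [pow_succ] at hm'; omega
  have hkl : klog n (lIdx n) = a ∧ kprime n (lIdx n) = a + 1 := by
    constructor
    · rw [klog, hl3]
      apply Nat.log_eq_of_pow_le_of_lt_pow
      · refine (Nat.le_div_iff_mul_le (by omega)).2 ?_
        rw [← hm]; omega
      · refine (Nat.div_lt_iff_lt_mul (by omega)).2 ?_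
        rw [pow_succ, mul_comm (2 ^ a) 2, mul_assoc, ← hm]; omega
    · rw [kprime, if_neg (by omega), if_neg (by omega), hl3,
        show 2 * n = 2 ^ (a + 1) * m by rw [hm, pow_succ]; ring, Nat.mul_div_cancel _ (by omega : 0 < m),
        Nat.log_pow one_lt_two]
  have hS : ∀ j, 3 ≤ j → j ≤ numVars n →
      evar n 1 ^ ((2 * j - 4) * 2 ^ klog n j) * sPoly n j ∈ Jm n (2 ^ a) := fun j hj3 hj => by
    refine pow_mul_mem_Jm ?_ _
    have h := le_mul_bound hn (by omega : 2 ≤ j)
    have h2 : 2 * ((2 * j - 3) * 2 ^ klog n j) ≤ 3 * ((2 * j - 4) * 2 ^ klog n j) := by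
      rw [← mul_assoc, ← mul_assoc]; exact Nat.mul_le_mul_right _ (by omega)
    omega
  have hx : xvar n + evar n (lIdx n) ^ 2 ^ a ∈ Jm n (2 ^ a) := by
    have h := Ideal.mem_sup_left (T := Ideal.span {evar n 1 ^ 2 ^ a}) (hrel_mem (n := n) ⟨lIdx n - 1, by omega⟩)
    simp only [show lIdx n - 1 + 1 = lIdx n by omega] at h
    rw [hrel, if_neg (by omega), if_pos hlv, hkl.1, hl3,
      show m * 2 ^ a - n = 0 by rw [hm, mul_comm m, Nat.sub_self], pow_zero, one_mul] at h
    have h2 := hS (lIdx n) hlv.1 hlv.2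
    rw [hkl.1] at h2
    rw [add_comm]
    exact (add_mem_iff_char2 h2).1 h
  have hother : ∀ i : Fin (numVars n), 1 ≤ i.val → i.val + 1 ≠ lIdx n →
      evar n (i.val + 1) ^ 2 ^ kprime n (i.val + 1) + hrel n (i.val + 1) ∈ Jm n (2 ^ a) := by
    intro i hi hil
    rcases Nat.lt_or_ge i.val 2 with h | h
    · rw [show i.val = 1 by omega, show 1 + 1 = 2 from rfl, kprime_two hn hnp, hrel, if_pos rfl]
      obtain ⟨_, h1, h2, h3⟩ := bound_one hn
      obtain ⟨k, hk⟩ : ∃ k, klog n 2 = k + 1 := ⟨klog n 2 - 1, by omega⟩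
      have := hnp (klog n 2)
      have hka : a ≤ k := by
        by_contra hcon
        have := Nat.pow_le_pow_right two_pos (show klog n 2 ≤ a by omega)
        omega
      rw [sPoly, hk, Finset.sum_range_succ, Nat.sub_self, pow_zero, one_mul, Nat.add_sub_cancel,
        add_comm, ← add_assoc (evar n 1 ^ _ * xvar n), add_assoc, Char2.add_self, add_zero]
      refine add_mem (Ideal.mem_sup_left (e1x_mem (by rw [← hk]; omega)))
        (Submodule.sum_mem _ fun t ht => pow_mul_mem_Jm ?_ _)
      have := Nat.pow_le_pow_right two_pos hka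
      have := Nat.pow_le_pow_right two_pos (show t + 1 ≤ k from Finset.mem_range.1 ht)
      have : 2 ^ (k + 1) = 2 * 2 ^ k := by rw [pow_succ, mul_comm]
      omega
    · have hne' := fun p => hpow (i.val + 1) p (by omega) hil
      rw [kprime_eq hn (by omega) i.isLt hne', hrel, if_neg (by omega), if_pos ⟨by omega, i.isLt⟩,
        ← add_assoc, ← add_assoc, Char2.add_self, zero_add]
      exact add_mem (Ideal.mem_sup_left (e1x_mem (exp_pos_of hn (by omega) hne'))) (hS _ (by omega) i.isLt)
  set v : FreeP n := evarE n (lIdx n) ^ 2 ^ a with hv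
  have hvx : iota n v + xvar n ∈ Jm n (2 ^ a) := by
    rw [hv, map_pow, iota_evarE, add_comm]; exact hx
  have hgen : ∀ i : Fin (numVars n), evarE n (i.val + 1) ^ 2 ^ kprime n (i.val + 1) ∈ evenIdeal n := fun i =>
    Ideal.subset_span (.inr ⟨i, rfl⟩)
  have he1 : evarE n 1 ^ 2 ^ a ∈ evenIdeal n := by
    simpa [kprime] using hgen ⟨0, by omega⟩
  have hgl : evarE n 1 * evarE n (lIdx n) ^ 2 ^ a ∈ evenIdeal n := by
    refine Ideal.subset_span (.inl ?_)
    rw [Set.mem_singleton_iff, hkl.2, Nat.add_sub_cancel]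
  have hsq : v * v ∈ evenIdeal n := by
    have h := hgen ⟨lIdx n - 1, by omega⟩
    simp only [show lIdx n - 1 + 1 = lIdx n by omega, hkl.2] at h
    rw [hv, ← pow_add, ← two_mul, ← pow_succ']; exact h
  have h2 : (evenIdeal n).map (iota n) ≤ Jm n (2 ^ a) := by
    rw [evenIdeal, Ideal.map_span, Ideal.span_le]
    rintro _ ⟨f, hf, rfl⟩
    rcases hf with rfl | ⟨i, rfl⟩
    · simp only [SetLike.mem_coe, map_mul, map_pow, iota_evarE, hkl.2, Nat.add_sub_cancel]
      have h3 : evar n 1 * xvar n ∈ Jm n (2 ^ a) := Ideal.mem_sup_left (Ideal.subset_span (.inl (by simp)))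
      refine (add_mem_iff_char2 h3).1 ?_
      rw [← mul_add, add_comm]; exact Ideal.mul_mem_left _ _ hx
    · simp only [SetLike.mem_coe, map_pow, iota_evarE]
      rcases Nat.lt_or_ge i.val 1 with h | h
      · simp only [show i.val = 0 by omega, kprime, if_true, ← hadef]
        simpa using pow_mul_mem_Jm (n := n) (le_refl (2 ^ a)) 1
      by_cases hil : i.val + 1 = lIdx n
      · rw [hil, hkl.2, pow_succ, pow_mul]
        have hxx : xvar n ^ 2 ∈ Jm n (2 ^ a) := Ideal.mem_sup_left (Ideal.subset_span (.inl (by simp)))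
        refine (add_mem_iff_char2 hxx).1 ?_
        rw [← sq_add (A := FreeE n) ]
        rw [add_comm]
        exact Ideal.pow_mem_of_mem _ hx 2 two_pos
      · exact (add_mem_iff_char2 (Ideal.mem_sup_left (hrel_mem i))).1 (hother i h hil)
  have h1 : (Jm n (2 ^ a)).map (sigma v) ≤ evenIdeal n := by
    have hJ : ∀ f ∈ Jm n (2 ^ a), ∀ g, iota n g + f ∈ Jm n (2 ^ a) → iota n g ∈ Jm n (2 ^ a) :=
      fun f hf g hg => (add_mem_iff_char2 hf).1 hg
    have hpm : ∀ p (r : FreeP n), 2 ^ a ≤ p → evarE n 1 ^ p * r ∈ evenIdeal n := fun p r hp => by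
      obtain ⟨s, rfl⟩ := Nat.exists_eq_add_of_le hp
      rw [pow_add, mul_assoc]
      exact Ideal.mul_mem_right _ _ he1
    have hev : ∀ p, 0 < p → evarE n 1 ^ p * v ∈ evenIdeal n := fun p hp => by
      obtain ⟨s, rfl⟩ : ∃ s, p = s + 1 := ⟨p - 1, by omega⟩
      rw [pow_succ, mul_assoc, hv]
      exact Ideal.mul_mem_left _ _ hgl
    rw [Jm, Ideal.map_sup, sup_le_iff, presIdeal, Ideal.map_span, Ideal.map_span, Ideal.span_le, Ideal.span_le]
    constructor
    · rintro _ ⟨f, hf, rfl⟩
      rcases hf with hf | ⟨i, rfl⟩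
      · rcases hf with rfl | rfl | rfl
        · simp only [SetLike.mem_coe, map_pow, sigma_evar]
          simpa using hpm n 1 (by omega)
        · simp only [SetLike.mem_coe, map_mul, sigma_evar, sigma_x]
          simpa using hev 1 one_pos
        · simp only [SetLike.mem_coe, pow_two, map_mul, sigma_x]
          exact hsq
      · simp only [SetLike.mem_coe]
        rcases Nat.lt_or_ge i.val 1 with h | h
        · simp [hrel, show i.val = 0 by omega]
        rcases Nat.lt_or_ge i.val 2 with h' | h'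
        · simp only [show i.val = 1 by omega, Nat.reduceAdd, hrel, if_true, sPoly, map_add, map_mul, map_pow, map_sum, sigma_evar, sigma_x]
          obtain ⟨_, h1, h2, h3⟩ := bound_one hn
          obtain ⟨k, hk⟩ : ∃ k, klog n 2 = k + 1 := ⟨klog n 2 - 1, by omega⟩
          have := hnp (klog n 2)
          refine add_mem (hev _ (by omega)) (Submodule.sum_mem _ fun t ht => ?_)
          rw [hk] at ht ⊢
          rcases Nat.lt_or_ge t k with htk | htk
          · refine hpm _ _ ?_
            have hka : a ≤ k := by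
              by_contra hcon
              have := Nat.pow_le_pow_right two_pos (show klog n 2 ≤ a by omega)
              omega
            have := Nat.pow_le_pow_right two_pos hka
            have := Nat.pow_le_pow_right two_pos (show t + 1 ≤ k from htk)
            have : 2 ^ (k + 1) = 2 * 2 ^ k := by rw [pow_succ, mul_comm]
            omega
          · obtain rfl : t = k := by have := Finset.mem_range.1 ht; omega
            rw [Nat.sub_self, pow_zero, one_mul]
            have hg := hgen ⟨1, numVars_two hn⟩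
            simp only [Nat.reduceAdd, kprime_two hn hnp, hk, Nat.add_sub_cancel] at hg
            exact hg
        · rw [hrel, if_neg (by omega), if_pos ⟨by omega, i.isLt⟩]
          simp only [map_add, map_mul, map_pow, sigma_evar, sigma_x]
          have h4 : evarE n 1 ^ ((2 * (i.val + 1) - 4) * 2 ^ klog n (i.val + 1)) * sigma v (sPoly n (i.val + 1)) ∈ evenIdeal n := by
            refine hpm _ _ ?_
            have h := le_mul_bound hn (by omega : 2 ≤ i.val + 1)
            have h2 : 2 * ((2 * (i.val + 1) - 3) * 2 ^ klog n (i.val + 1)) ≤ 3 * ((2 * (i.val + 1) - 4) * 2 ^ klog n (i.val + 1)) := by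
              rw [← mul_assoc, ← mul_assoc]; exact Nat.mul_le_mul_right _ (by omega)
            omega
          by_cases hil : i.val + 1 = lIdx n
          · refine add_mem ?_ h4
            rw [hil, hkl.1, hl3, show m * 2 ^ a - n = 0 by rw [hm, mul_comm m, Nat.sub_self], pow_zero, one_mul,
              hv, CharTwo.add_self_eq_zero]
            exact zero_mem _
          · refine add_mem (add_mem ?_ (hev _ (exp_pos_of hn (by omega) fun p => hpow _ p (by omega) hil))) h4
            rw [← kprime_eq hn (by omega) i.isLt fun p => hpow _ p (by omega) hil]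
            exact hgen i
    · rintro _ ⟨f, rfl, rfl⟩
      simp only [SetLike.mem_coe, map_pow, sigma_evar]
      exact he1
  constructor
  · intro q
    rw [← iota_mem_iff v h1 h2 q, ← mem_Jm_iff hn hτ1 hτ, phi_iota]
  · intro z hz
    obtain ⟨f, rfl⟩ := exists_phi hn hτ1 hτ hz
    obtain ⟨w, hw, e⟩ := (mem_Jm_iff hn hτ1 hτ _ _).2 (elim_sub_mem v hvx f)
    refine ⟨sigma v f, w, hw, ?_⟩
    rw [map_add, phi_iota] at e
    rw [← e, ← add_assoc, Char2.add_self, zero_add]

end

theorem pow_case (hn : 2 ≤ n) (τ : QsChow.P n →ₐ[ZMod 2] QsChow.P n) (hτ1 : τ (eps n 1) = eps n 1)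
    (hτ : ∀ j : ℕ, 2 ≤ j → j ≤ numVars n → τ (eps n j) = eps n j + eps n 1 ^ (2 * j - 3))
    (b : ℕ) (hb : 1 ≤ b) (hnb : n = 2 ^ b) :
    (psi n).range = AlgHom.equalizer τ (AlgHom.id (ZMod 2) (QsChow.P n)) ∧
      RingHom.ker (psi n) = powIdeal n := by
  have hk2 : klog n 2 = b := by
    obtain ⟨_, h1, h2, h3⟩ := bound_one hn
    rw [klog, show 2 * 2 - 3 = 1 from rfl, Nat.div_one]
    refine Nat.log_eq_of_pow_le_of_lt_pow (by omega) ?_
    rw [pow_succ]; omega
  have hkp2 : kprime n 2 = b := by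
    rw [kprime, if_neg (by omega), if_pos rfl, hnb, Nat.log_pow one_lt_two]
  have hkp1 : kprime n 1 = b := by
    rw [kprime, if_pos rfl, twoExp, hnb]; exact padicValNat.prime_pow b
  have hne : ∀ j p : ℕ, 3 ≤ j → 2 ^ p * (2 * j - 3) ≠ 2 * n := by
    intro j p hj h
    have hd : (2 * j - 3) ∣ 2 ^ (b + 1) := ⟨2 ^ p, by rw [pow_succ, ← hnb, mul_comm n, ← h, mul_comm]⟩
    obtain ⟨i, -, hi⟩ := (Nat.dvd_prime_pow Nat.prime_two).1 hd
    rcases i with _ | i
    · simp at hi; omega
    · rw [pow_succ] at hi; omega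
  have hE2 : ∀ j, 3 ≤ j → n ≤ (2 * j - 4) * 2 ^ klog n j := by
    intro j hj
    have h := le_mul_bound hn (by omega : 2 ≤ j)
    rcases le_total b (klog n j) with hc | hc
    · calc n = 2 ^ b := hnb
        _ ≤ 1 * 2 ^ klog n j := by rw [one_mul]; exact Nat.pow_le_pow_right two_pos hc
        _ ≤ _ := Nat.mul_le_mul_right _ (by omega)
    · generalize klog n j = K at h hc ⊢
      obtain ⟨d, hd⟩ := Nat.exists_eq_add_of_le hc
      rw [hnb, hd, pow_add] at h ⊢
      rw [mul_comm (2 * j - 3)] at h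
      have h5 := Nat.le_of_mul_le_mul_left h (by positivity)
      rw [mul_comm (2 * j - 4)]
      refine Nat.mul_le_mul_left _ ?_
      rcases d with _ | d
      · simp; omega
      · rw [pow_succ] at h5 ⊢; omega
  set v : FreeP n := ∑ t ∈ Finset.range (kprime n 2),
      evarE n 1 ^ (2 ^ kprime n 2 - 2 ^ (t + 1)) * evarE n 2 ^ 2 ^ t with hv
  have hiv : iota n v = sPoly n 2 := by
    simp only [hv, sPoly, hkp2, hk2, map_sum, map_mul, map_pow, iota_evarE]
  have hsv : sigma v (sPoly n 2) = v := by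
    simp only [hv, sPoly, hkp2, hk2, map_sum, map_mul, map_pow, sigma_evar]
  have h2rel : hrel n 2 = xvar n + sPoly n 2 := by
    rw [hrel, if_pos rfl, hk2, ← hnb, Nat.sub_self, pow_zero, one_mul]
  have hvx : iota n v + xvar n ∈ presIdeal n := by
    rw [hiv, add_comm, ← h2rel]
    exact hrel_mem ⟨1, numVars_two hn⟩
  have hgen : ∀ i : Fin (numVars n), evarE n (i.val + 1) ^ 2 ^ kprime n (i.val + 1) ∈ powIdeal n := fun i =>
    Ideal.subset_span (.inr ⟨i, rfl⟩)
  have he1 : ∀ p (r : FreeP n), n ≤ p → evarE n 1 ^ p * r ∈ powIdeal n := fun p r hp => by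
    obtain ⟨s, rfl⟩ := Nat.exists_eq_add_of_le hp
    rw [pow_add, mul_assoc]
    refine Ideal.mul_mem_right _ _ ?_
    simpa [hkp1, ← hnb] using hgen ⟨0, by have := numVars_two hn; omega⟩
  have hev : ∀ p, 0 < p → evarE n 1 ^ p * v ∈ powIdeal n := fun p hp => by
    obtain ⟨s, rfl⟩ : ∃ s, p = s + 1 := ⟨p - 1, by omega⟩
    rw [pow_succ, mul_assoc]
    exact Ideal.mul_mem_left _ _ (Ideal.subset_span (.inl rfl))
  have hp1 : ∀ p (r : FreeE n), n ≤ p → evar n 1 ^ p * r ∈ presIdeal n := fun p r hp => by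
    obtain ⟨s, rfl⟩ := Nat.exists_eq_add_of_le hp
    rw [pow_add, mul_assoc]
    exact Ideal.mul_mem_right _ _ (Ideal.subset_span (.inl (by simp)))
  obtain ⟨c, hc⟩ : ∃ c, b = c + 1 := ⟨b - 1, by omega⟩
  have hsqexp : ∀ t < c, n ≤ (2 ^ b - 2 ^ (t + 1)) * 2 := fun t ht => by
    have := Nat.pow_le_pow_right two_pos (show t + 1 ≤ c from ht)
    rw [hnb, hc, pow_succ]; omega
  have h1 : (presIdeal n).map (sigma v) ≤ powIdeal n := by
    rw [presIdeal, Ideal.map_span, Ideal.span_le]
    rintro _ ⟨f, hf, rfl⟩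
    rcases hf with hf | ⟨i, rfl⟩
    · rcases hf with rfl | rfl | rfl
      · simp only [SetLike.mem_coe, map_pow, sigma_evar]
        simpa using he1 n 1 le_rfl
      · simp only [SetLike.mem_coe, map_mul, sigma_evar, sigma_x]
        simpa using hev 1 one_pos
      · simp only [SetLike.mem_coe, map_pow, sigma_x]
        haveI : Char2 (FreeP n) := char2_of_algebra _
        rw [hv, hkp2, pow_two_pow_sum]
        refine Submodule.sum_mem _ fun t ht => ?_
        rw [mul_pow, ← pow_mul, ← pow_mul]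
        rcases Nat.lt_or_ge t c with htc | htc
        · exact he1 _ _ (hsqexp t htc)
        · obtain rfl : t = c := by have := Finset.mem_range.1 ht; omega
          rw [hc, Nat.sub_self, zero_mul, pow_zero, one_mul, ← pow_succ, ← hc]
          have hg := hgen ⟨1, numVars_two hn⟩
          simp only [Nat.reduceAdd, hkp2] at hg
          exact hg
    · simp only [SetLike.mem_coe]
      rcases Nat.lt_or_ge i.val 1 with h | h
      · simp [hrel, show i.val = 0 by omega]
      rcases Nat.lt_or_ge i.val 2 with h' | h'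
      · simp only [show i.val = 1 by omega, Nat.reduceAdd, h2rel, map_add, sigma_x, hsv]
        rw [CharTwo.add_self_eq_zero]; exact zero_mem _
      · rw [hrel, if_neg (by omega), if_pos ⟨by omega, i.isLt⟩]
        simp only [map_add, map_mul, map_pow, sigma_evar, sigma_x]
        refine add_mem (add_mem ?_ (hev _ (exp_pos_of hn (by omega) fun p => hne _ p (by omega))))
          (he1 _ _ (hE2 _ (by omega)))
        rw [← kprime_eq hn (by omega) i.isLt fun p => hne _ p (by omega)]
        exact hgen i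
  have h2 : (powIdeal n).map (iota n) ≤ presIdeal n := by
    rw [powIdeal, Ideal.map_span, Ideal.span_le]
    rintro _ ⟨f, hf, rfl⟩
    have hex : evar n 1 * xvar n ∈ presIdeal n := Ideal.subset_span (.inl (by simp))
    have hS : xvar n + sPoly n 2 ∈ presIdeal n := by rw [add_comm, ← hiv]; exact hvx
    rcases hf with rfl | ⟨i, rfl⟩
    · simp only [SetLike.mem_coe, map_mul, iota_evarE, ← hv, hiv]
      refine (add_mem_iff_char2 hex).1 ?_
      rw [← mul_add, add_comm]; exact Ideal.mul_mem_left _ _ hS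
    · simp only [SetLike.mem_coe, map_pow, iota_evarE]
      rcases Nat.lt_or_ge i.val 1 with h | h
      · simp only [show i.val = 0 by omega, hkp1, ← hnb]
        exact Ideal.subset_span (.inl (by simp))
      rcases Nat.lt_or_ge i.val 2 with h' | h'
      · simp only [show i.val = 1 by omega, Nat.reduceAdd, hkp2]
        haveI : Char2 (FreeE n) := char2_of_algebra _
        have hxx : xvar n ^ 2 ∈ presIdeal n := Ideal.subset_span (.inl (by simp))
        have hsum := Ideal.pow_mem_of_mem _ hS 2 two_pos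
        rw [sq_add, sPoly, hk2, hc, pow_two_pow_sum, Finset.sum_range_succ, Nat.sub_self, pow_zero, one_mul,
          ← pow_mul, ← pow_succ] at hsum
        rw [hc]
        have hrest : (∑ t ∈ Finset.range c, (evar n 1 ^ (2 ^ (c + 1) - 2 ^ (t + 1)) * evar n 2 ^ 2 ^ t) ^ 2) ∈
            presIdeal n := Submodule.sum_mem _ fun t ht => by
          rw [mul_pow, ← pow_mul, ← hc]
          exact hp1 _ _ (hsqexp t (Finset.mem_range.1 ht))
        exact (Ideal.add_mem_iff_right _ hrest).1 ((Ideal.add_mem_iff_right _ hxx).1 hsum)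
      · have hg := hrel_mem i
        rw [hrel, if_neg (by omega), if_pos ⟨by omega, i.isLt⟩] at hg
        rw [kprime_eq hn (by omega) i.isLt fun p => hne _ p (by omega)]
        exact (add_mem_iff_char2 (e1x_mem (exp_pos_of hn (by omega) fun p => hne _ p (by omega)))).1
          ((add_mem_iff_char2 (hp1 _ _ (hE2 _ (by omega)))).1 hg)
  have hker : RingHom.ker (psi n) = powIdeal n := by
    ext q
    rw [RingHom.mem_ker, ← phi_iota, ← RingHom.mem_ker, ker_phi hn]
    exact iota_mem_iff v h1 h2 q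
  refine ⟨?_, hker⟩
  rw [← range_phi hn hτ1 hτ]
  apply le_antisymm
  · rintro _ ⟨q, rfl⟩
    exact ⟨iota n q, phi_iota q⟩
  · rintro _ ⟨f, rfl⟩
    refine ⟨sigma v f, ?_⟩
    have h := elim_sub_mem v hvx f
    rw [← ker_phi hn, RingHom.mem_ker, map_add, phi_iota] at h
    change psi n (sigma v f) = phi n f
    have := Char2.add_self (phi n f)
    linear_combination h - this

end Groth.Agent.QsPn
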