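import Groth.Agent.QsPn.Basis

/-!
The involution of the truncated algebra in the adapted basis.
-/

set_option autoImplicit false
set_option backward.isDefEq.respectTransparency false

open MvPolynomial QsChow

namespace Groth.Agent.QsPn

variable {n : ℕ}

/-- first exponent -/
def q0 (hn : 2 ≤ n) (d : Box n) : ℕ := (d ⟨0, by have := numVars_two hn; omega⟩).val

/-- second exponent -/
def a1 (hn : 2 ≤ n) (d : Box n) : ℕ := (d ⟨1, numVars_two hn⟩).val

theorem q0_lt (hn : 2 ≤ n) (d : Box n) : q0 hn d < n :=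
  lt_of_lt_of_eq (d ⟨0, _⟩).isLt (by simp [bound])

theorem a1_lt (hn : 2 ≤ n) (d : Box n) : a1 hn d < 2 ^ klog n 2 :=
  lt_of_lt_of_eq (d ⟨1, _⟩).isLt (bound_one hn).1

theorem q0_setLow (hn : 2 ≤ n) (d : Box n) (q a : ℕ) (hq : q < n) (ha : a < 2 ^ klog n 2) :
    q0 hn (setLow hn d q a hq ha) = q := by simp [q0, setLow]

theorem a1_setLow (hn : 2 ≤ n) (d : Box n) (q a : ℕ) (hq : q < n) (ha : a < 2 ^ klog n 2) :
    a1 hn (setLow hn d q a hq ha) = a := by simp [a1, setLow]

theorem fam_eq (hn : 2 ≤ n) (d : Box n) : fam hn d = vec n d (q0 hn d) (a1 hn d) := rfl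

theorem vec_eq_zero (hn : 2 ≤ n) (d : Box n) {q : ℕ} (a : ℕ) (hq : n ≤ q) : vec n d q a = 0 := by
  simp only [vec, low, gE_pow_mul_eq_zero hn hq, zero_mul]

/-- the basis -/
noncomputable def basis (hn : 2 ≤ n) : Module.Basis (Box n) (ZMod 2) (QsChow.P n) :=
  Module.Basis.mk (fam_independent hn) (fam_span hn)

theorem basis_apply (hn : 2 ≤ n) (d : Box n) : basis hn d = fam hn d := by
  simp [basis]

variable {τ : QsChow.P n →ₐ[ZMod 2] QsChow.P n}

/-- `1 + τ` -/
noncomputable def delta (τ : QsChow.P n →ₐ[ZMod 2] QsChow.P n) : QsChow.P n →ₗ[ZMod 2] QsChow.P n :=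
  LinearMap.id + τ.toLinearMap

theorem delta_apply (x : QsChow.P n) : delta τ x = x + τ x := rfl

section
variable (hn : 2 ≤ n) (hτ1 : τ (eps n 1) = eps n 1)
  (hτ : ∀ j : ℕ, 2 ≤ j → j ≤ numVars n → τ (eps n j) = eps n j + eps n 1 ^ (2 * j - 3))
include hn hτ1 hτ

theorem tau_gY : τ (gY n) = gY n + gE n := by
  simpa using hτ 2 le_rfl (numVars_two hn)

theorem tau_gU : τ (gU n) = gU n := by
  simp only [map_add, map_pow, map_mul, hτ1]
  rw [show τ (eps n 2) = _ from tau_gY hn hτ1 hτ, sq_add]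
  have h := Char2.add_self (eps n 1 ^ 2)
  linear_combination h

theorem tau_gB (i : Fin (numVars n)) : τ (gB n i) = gB n i := by
  rw [gB]
  split_ifs with h
  · simp
  simp only [map_add, map_pow, map_mul, hτ1]
  rw [show τ (eps n 2) = _ from tau_gY hn hτ1 hτ, hτ (i.val + 1) (by omega) (by omega)]
  have e : 2 * (i.val + 1) - 3 = 2 * (i.val + 1) - 4 + 1 := by omega
  have h := Char2.add_self (eps n 1 ^ (2 * (i.val + 1) - 4 + 1))
  rw [e]
  linear_combination h

theorem tau_tail (d : Box n) : τ (tail n d) = tail n d := by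
  simp only [tail, map_prod, map_pow, tau_gB hn hτ1 hτ]

theorem tau_vec (d : Box n) (q a : ℕ) :
    τ (vec n d q a) = vec n d q a + if a % 2 = 1 then vec n d (q + 1) (a - 1) else 0 := by
  simp only [vec, low, map_mul, map_pow, hτ1, tau_gU hn hτ1 hτ, tau_gY hn hτ1 hτ, tau_tail hn hτ1 hτ]
  rcases Nat.mod_two_eq_zero_or_one a with h | h
  · simp [h]
  · simp only [h, if_true, show (a - 1) % 2 = 0 by omega, show (a - 1) / 2 = a / 2 by omega]
    ring

theorem delta_fam (d : Box n) :
    delta τ (fam hn d) =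
      if h : a1 hn d % 2 = 1 ∧ q0 hn d + 1 < n then
        fam hn (setLow hn d (q0 hn d + 1) (a1 hn d - 1) h.2 (by have := a1_lt hn d; omega))
      else 0 := by
  rw [delta_apply, fam_eq, tau_vec hn hτ1 hτ, ← add_assoc, Char2.add_self, zero_add]
  split_ifs with h h' h'
  · rw [fam_setLow]
  · exact vec_eq_zero hn d _ (not_lt.1 fun h2 => h' ⟨h, h2⟩)
  · exact absurd h'.1 h
  · rfl

theorem delta_mem_even (x : QsChow.P n) :
    delta τ x ∈ Submodule.span (ZMod 2) (basis hn '' {d | a1 hn d % 2 = 0}) := by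
  rw [← (basis hn).sum_repr x, map_sum]
  refine Submodule.sum_mem _ fun d _ => ?_
  rw [map_smul, basis_apply, delta_fam hn hτ1 hτ]
  refine Submodule.smul_mem _ _ ?_
  split_ifs with h
  · exact Submodule.subset_span ⟨setLow hn d _ _ h.2 _, by simp only [Set.mem_setOf_eq, a1_setLow]; omega,
      basis_apply _ _⟩
  · exact zero_mem _

theorem fixed_mem (x : QsChow.P n) (hx : τ x = x) :
    x ∈ Submodule.span (ZMod 2) (basis hn '' {d | a1 hn d % 2 = 0 ∨ q0 hn d + 1 = n}) := by
  classical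
  rw [(basis hn).mem_span_image]
  intro d hd
  simp only [Set.mem_setOf_eq]
  by_contra hcon
  push Not at hcon
  have hh : a1 hn d % 2 = 1 ∧ q0 hn d + 1 < n := ⟨by omega, by have := q0_lt hn d; omega⟩
  refine (Finsupp.mem_support_iff.1 hd) ?_
  set d' := setLow hn d (q0 hn d + 1) (a1 hn d - 1) hh.2 (by have := a1_lt hn d; omega) with hd'
  have h0 : (basis hn).repr (delta τ x) d' = 0 := by
    rw [delta_apply, hx, Char2.add_self, map_zero]; rfl
  rw [← (basis hn).sum_repr x, map_sum, map_sum, Finsupp.finset_sum_apply, Finset.sum_eq_single d] at h0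
  · rwa [map_smul, map_smul, basis_apply, delta_fam hn hτ1 hτ, dif_pos hh, ← hd', ← basis_apply,
      Module.Basis.repr_self, Finsupp.smul_apply, Finsupp.single_eq_same, smul_eq_mul, mul_one] at h0
  · intro b _ hb
    rw [map_smul, map_smul, basis_apply, delta_fam hn hτ1 hτ]
    split_ifs with h
    · rw [← basis_apply, Module.Basis.repr_self, Finsupp.smul_apply, Finsupp.single_apply, if_neg, smul_zero]
      intro e
      apply hb
      funext i
      have ei := congrFun e i
      by_cases i0 : i.val = 0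
      · have eq := congrArg (q0 hn) e
        rw [hd', q0_setLow, q0_setLow, add_left_inj] at eq
        have hi : i = ⟨0, Fin.pos i⟩ := Fin.ext i0
        rw [hi]
        exact Fin.ext eq
      by_cases i1 : i.val = 1
      · have eq := congrArg (a1 hn) e
        rw [hd', a1_setLow, a1_setLow] at eq
        rw [show i = ⟨1, numVars_two hn⟩ from Fin.ext i1]
        apply Fin.ext
        have := h.1; have := hh.1
        simp only [a1] at *
        omega
      · simpa [hd', setLow, i0, i1] using ei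
    · simp
  · simp

theorem tau_fam_even (d : Box n) (q : ℕ) (h : a1 hn d % 2 = 0) :
    τ (vec n d q (a1 hn d)) = vec n d q (a1 hn d) := by
  rw [tau_vec hn hτ1 hτ, if_neg (by omega), add_zero]

end

theorem span_pow_mem (hn : 2 ≤ n) (m : ℕ) {x : QsChow.P n}
    (hx : x ∈ Ideal.span ({eps n 1 ^ m} : Set (QsChow.P n))) :
    x ∈ Submodule.span (ZMod 2) (basis hn '' {d | m ≤ q0 hn d}) := by
  obtain ⟨w, rfl⟩ := Ideal.mem_span_singleton'.1 hx
  rw [← (basis hn).sum_repr w, Finset.sum_mul]
  refine Submodule.sum_mem _ fun d _ => ?_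
  rw [smul_mul_assoc, basis_apply]
  refine Submodule.smul_mem _ _ ?_
  have e : fam hn d * eps n 1 ^ m = vec n d (q0 hn d + m) (a1 hn d) := by
    simp only [fam_eq, vec, low]; ring
  rw [e]
  by_cases h : q0 hn d + m < n
  · refine Submodule.subset_span ⟨setLow hn d (q0 hn d + m) (a1 hn d) h (a1_lt hn d), ?_, ?_⟩
    · simp only [Set.mem_setOf_eq, q0_setLow]; omega
    · rw [basis_apply, fam_setLow]
  · rw [vec_eq_zero hn d _ (not_lt.1 h)]; exact zero_mem _

theorem exists_fixed (hn : 2 ≤ n) (hτ1 : τ (eps n 1) = eps n 1)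
    (hτ : ∀ j : ℕ, 2 ≤ j → j ≤ numVars n → τ (eps n j) = eps n j + eps n 1 ^ (2 * j - 3))
    (m : ℕ) (y : QsChow.P n) (hy : y + τ y ∈ Ideal.span ({eps n 1 ^ m} : Set (QsChow.P n))) :
    ∃ z : QsChow.P n, τ z = z ∧ y + τ y = eps n 1 ^ m * z := by
  have h1 := delta_mem_even hn hτ1 hτ y
  have h2 := span_pow_mem hn m hy
  rw [delta_apply] at h1
  have h3 : y + τ y ∈ Submodule.span (ZMod 2) (basis hn '' {d | a1 hn d % 2 = 0 ∧ m ≤ q0 hn d}) := by
    rw [Module.Basis.mem_span_image] at h1 h2 ⊢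
    exact fun d hd => ⟨h1 hd, h2 hd⟩
  generalize y + τ y = v at h3
  induction h3 using Submodule.span_induction with
  | mem v hv =>
    obtain ⟨d, ⟨ha, hq⟩, rfl⟩ := hv
    refine ⟨vec n d (q0 hn d - m) (a1 hn d), tau_fam_even hn hτ1 hτ d _ ha, ?_⟩
    rw [basis_apply, fam_eq]
    obtain ⟨r, hr⟩ := Nat.exists_eq_add_of_le hq
    simp only [vec, low, hr, Nat.add_sub_cancel_left, pow_add]
    ring
  | zero => exact ⟨0, map_zero _, (mul_zero _).symm⟩
  | add a b _ _ ha hb =>
    obtain ⟨za, ta, rfl⟩ := ha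
    obtain ⟨zb, tb, rfl⟩ := hb
    exact ⟨za + zb, by rw [map_add, ta, tb], (mul_add _ _ _).symm⟩
  | smul c a _ ha =>
    obtain ⟨za, ta, rfl⟩ := ha
    exact ⟨c • za, by rw [map_smul, ta], by rw [mul_smul_comm]⟩

theorem range_phi (hn : 2 ≤ n) (hτ1 : τ (eps n 1) = eps n 1)
    (hτ : ∀ j : ℕ, 2 ≤ j → j ≤ numVars n → τ (eps n j) = eps n j + eps n 1 ^ (2 * j - 3)) :
    (phi n).range = AlgHom.equalizer τ (AlgHom.id (ZMod 2) (QsChow.P n)) := by
  apply le_antisymm
  · rintro _ ⟨f, rfl⟩
    change τ (phi n f) = phi n f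
    refine DFunLike.congr_fun (show τ.comp (phi n) = phi n from algHom_ext fun i => ?_) f
    rw [AlgHom.comp_apply, phi, aeval_X]
    rcases i with _ | i
    · simp only [genImage, map_mul, map_pow, hτ1]
      rw [show τ (eps n 2) = _ from tau_gY hn hτ1 hτ, mul_add, ← pow_succ,
        show n - 1 + 1 = n by omega, gE_pow hn, add_zero]
    · simp only [genImage]
      split_ifs with h0 h1
      · exact hτ1
      · exact tau_gU hn hτ1 hτ
      · simpa [gB, show ¬ i.val < 2 by omega] using tau_gB hn hτ1 hτ i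
  · intro x hx
    have hmem := fixed_mem hn hτ1 hτ x hx
    have hg : ∀ i, genImage n i ∈ (phi n).range := fun i => ⟨X i, by simp [phi]⟩
    have hE : gE n ∈ (phi n).range := by
      simpa [genImage] using hg (some ⟨0, by have := numVars_two hn; omega⟩)
    have hU : gU n ∈ (phi n).range := by
      simpa [genImage] using hg (some ⟨1, numVars_two hn⟩)
    have hT : ∀ d, tail n d ∈ (phi n).range := fun d => by
      refine Subalgebra.prod_mem _ fun i _ => Subalgebra.pow_mem _ ?_ _
      by_cases h : i.val < 2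
      · simp only [gB, h, if_true]; exact Subalgebra.one_mem _
      · have := hg (some i)
        simpa [genImage, gB, h, show i.val ≠ 0 by omega, show i.val ≠ 1 by omega] using this
    refine (Submodule.span_le (p := Subalgebra.toSubmodule (phi n).range)).2 ?_ hmem
    rintro _ ⟨d, hd, rfl⟩
    rw [SetLike.mem_coe, Subalgebra.mem_toSubmodule, basis_apply, fam_eq]
    rcases Nat.mod_two_eq_zero_or_one (a1 hn d) with h | h
    · simp only [vec, low, h, pow_zero, mul_one]
      exact mul_mem (mul_mem (pow_mem hE _) (pow_mem hU _)) (hT d)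
    · have hq : q0 hn d = n - 1 := by
        rcases hd with hd | hd <;> omega
      have hX : gE n ^ (n - 1) * gY n ∈ (phi n).range := by simpa [genImage] using hg none
      simp only [vec, low, h, hq, pow_one]
      rw [show gE n ^ (n - 1) * gU n ^ (a1 hn d / 2) * gY n * tail n d =
        (gE n ^ (n - 1) * gY n) * gU n ^ (a1 hn d / 2) * tail n d by ring]
      exact mul_mem (mul_mem hX (pow_mem hU _)) (hT d)

end Groth.Agent.QsPn
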