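import Groth.Agent.QsPn.Delta

/-!
The presentation of the fixed algebra.
-/

set_option autoImplicit false
set_option backward.isDefEq.respectTransparency false

open MvPolynomial QsChow

namespace Groth.Agent.QsPn

variable {n : ℕ}

/-- the presented algebra -/
abbrev R (n : ℕ) : Type := FreeE n ⧸ presIdeal n

/-- class map -/
noncomputable abbrev mkR (n : ℕ) : FreeE n →ₐ[ZMod 2] R n := Ideal.Quotient.mkₐ (ZMod 2) (presIdeal n)

/-- `e₁` -/
noncomputable abbrev rE (n : ℕ) : R n := mkR n (evar n 1)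
/-- `e₂` -/
noncomputable abbrev rU (n : ℕ) : R n := mkR n (evar n 2)
/-- `x` -/
noncomputable abbrev rX (n : ℕ) : R n := mkR n (xvar n)

/-- the other generators -/
noncomputable def rB (n : ℕ) (i : Fin (numVars n)) : R n :=
  if i.val < 2 then 1 else mkR n (X (some i))

/-- the tail monomial -/
noncomputable def tailR (n : ℕ) (d : Box n) : R n := ∏ i, rB n i ^ (d i).val

theorem evar_eq (i : Fin (numVars n)) : evar n (i.val + 1) = X (some i) := by
  simp [evar]

theorem phi_evar (i : Fin (numVars n)) : phi n (evar n (i.val + 1)) = genImage n (some i) := by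
  rw [evar_eq, phi, aeval_X]

theorem phi_e1 (hn : 2 ≤ n) : phi n (evar n 1) = gE n := by
  have h := phi_evar (n := n) ⟨0, by have := numVars_two hn; omega⟩
  simpa [genImage] using h

theorem phi_e2 (hn : 2 ≤ n) : phi n (evar n 2) = gU n := by
  have h := phi_evar (n := n) ⟨1, numVars_two hn⟩
  simpa [genImage] using h

theorem phi_x : phi n (xvar n) = gE n ^ (n - 1) * gY n := by
  simp [phi, xvar, genImage]

theorem presIdeal_le (hn : 2 ≤ n) : presIdeal n ≤ RingHom.ker (phi n) := by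
  rw [presIdeal, Ideal.span_le]
  have hS : ∀ j, phi n (sPoly n j) =
      ∑ t ∈ Finset.range (klog n j), gE n ^ (2 ^ klog n j - 2 ^ (t + 1)) * gU n ^ 2 ^ t := by
    intro j; simp only [sPoly, map_sum, map_mul, map_pow, phi_e1 hn, phi_e2 hn]
  rintro f (hf | ⟨i, rfl⟩)
  · rcases hf with rfl | rfl | rfl
    · rw [SetLike.mem_coe, RingHom.mem_ker, map_pow, phi_e1 hn, gE_pow hn]
    · rw [SetLike.mem_coe, RingHom.mem_ker, map_mul, phi_e1 hn, phi_x, ← mul_assoc, ← pow_succ',
        show n - 1 + 1 = n by omega, gE_pow hn, zero_mul]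
    · rw [SetLike.mem_coe, RingHom.mem_ker, map_pow, phi_x, mul_pow, ← pow_mul,
        gE_pow_mul_eq_zero hn (by omega : n ≤ (n - 1) * 2), zero_mul]
  · simp only [SetLike.mem_coe, RingHom.mem_ker]
    simp only [hrel]
    split_ifs with h2 h3
    · have hb := bound_one hn
      rw [map_add, hS, map_mul, map_pow, phi_e1 hn, phi_x, ← mul_assoc, ← pow_add,
        show 2 ^ klog n 2 - n + (n - 1) = 2 ^ klog n 2 - 1 by omega,
        ← pow_two_pow_eq (gE n) (gY n) (gU n) rfl, gY_pow hn]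
    · have hle := le_mul_bound hn (by omega : 2 ≤ i.val + 1)
      have hp : phi n (evar n (i.val + 1)) = gB n i := by
        rw [phi_evar]
        simp [genImage, gB, show ¬ i.val < 2 by omega, show i.val ≠ 0 by omega, show i.val ≠ 1 by omega]
      have hk : 1 ≤ 2 ^ klog n (i.val + 1) := Nat.one_le_two_pow
      have he : (2 * (i.val + 1) - 3) * 2 ^ klog n (i.val + 1) - n + (n - 1) =
          (2 * (i.val + 1) - 4) * 2 ^ klog n (i.val + 1) + (2 ^ klog n (i.val + 1) - 1) := by
        have : (2 * (i.val + 1) - 3) * 2 ^ klog n (i.val + 1) =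
            (2 * (i.val + 1) - 4) * 2 ^ klog n (i.val + 1) + 2 ^ klog n (i.val + 1) := by
          rw [show 2 * (i.val + 1) - 3 = 2 * (i.val + 1) - 4 + 1 by omega, Nat.succ_mul]
        omega
      simp only [map_add, map_mul, map_pow, hS, hp, phi_e1 hn, phi_x]
      rw [gB_pow hn i (by omega), ← mul_assoc, ← pow_add, he, pow_add, mul_assoc (gE n ^ _), add_assoc,
        ← mul_add, ← pow_two_pow_eq (gE n) (gY n) (gU n) rfl, Char2.add_self]
    · exact map_zero _

theorem rE_pow {q : ℕ} (hq : n ≤ q) : rE n ^ q = 0 := by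
  obtain ⟨r, rfl⟩ := Nat.exists_eq_add_of_le hq
  rw [pow_add, ← map_pow, show mkR n (evar n 1 ^ n) = 0 from
    Ideal.Quotient.eq_zero_iff_mem.2 (Ideal.subset_span (.inl (by simp))), zero_mul]

theorem rE_rX : rE n * rX n = 0 := by
  rw [← map_mul]
  exact Ideal.Quotient.eq_zero_iff_mem.2 (Ideal.subset_span (.inl (by simp)))

theorem rX_sq : rX n * rX n = 0 := by
  rw [← map_mul, ← sq]
  exact Ideal.Quotient.eq_zero_iff_mem.2 (Ideal.subset_span (.inl (by simp)))

theorem hrel_zero (i : Fin (numVars n)) : mkR n (hrel n (i.val + 1)) = 0 :=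
  Ideal.Quotient.eq_zero_iff_mem.2 (Ideal.subset_span (.inr ⟨i, rfl⟩))

theorem mk_sPoly (j : ℕ) : mkR n (sPoly n j) =
    ∑ t ∈ Finset.range (klog n j), rE n ^ (2 ^ klog n j - 2 ^ (t + 1)) * rU n ^ 2 ^ t := by
  simp only [sPoly, map_sum, map_mul, map_pow]

theorem rU_top (hn : 2 ≤ n) : rU n ^ 2 ^ (klog n 2 - 1) =
    rE n ^ (2 ^ klog n 2 - n) * rX n +
      ∑ t ∈ Finset.range (klog n 2 - 1), rE n ^ (2 ^ klog n 2 - 2 ^ (t + 1)) * rU n ^ 2 ^ t := by
  have h := hrel_zero (n := n) ⟨1, numVars_two hn⟩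
  rw [hrel, if_pos rfl, map_add, mk_sPoly, map_mul, map_pow] at h
  obtain ⟨k, hk⟩ : ∃ k, klog n 2 = k + 1 := ⟨klog n 2 - 1, by have := (bound_one hn).2.1; omega⟩
  rw [hk, Finset.sum_range_succ, Nat.sub_self, pow_zero, one_mul] at h
  rw [hk, Nat.add_sub_cancel]
  have h2 := Char2.add_self (rE n ^ (2 ^ (k + 1) - n) * rX n +
    ∑ t ∈ Finset.range k, rE n ^ (2 ^ (k + 1) - 2 ^ (t + 1)) * rU n ^ 2 ^ t)
  linear_combination h - h2

theorem rB_top (hn : 2 ≤ n) (i : Fin (numVars n)) (hi : 2 ≤ i.val) : rB n i ^ bound n i =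
    rE n ^ ((2 * (i.val + 1) - 3) * 2 ^ klog n (i.val + 1) - n) * rX n +
      rE n ^ ((2 * (i.val + 1) - 4) * 2 ^ klog n (i.val + 1)) *
        ∑ t ∈ Finset.range (klog n (i.val + 1)), rE n ^ (2 ^ klog n (i.val + 1) - 2 ^ (t + 1)) * rU n ^ 2 ^ t := by
  have h := hrel_zero (n := n) i
  rw [hrel, if_neg (by omega), if_pos ⟨by omega, i.isLt⟩] at h
  simp only [map_add, map_mul, map_pow, mk_sPoly, evar_eq] at h
  rw [bound_ge_two (by omega), rB, if_neg (by omega)]
  have h2 := Char2.add_self (rE n ^ ((2 * (i.val + 1) - 3) * 2 ^ klog n (i.val + 1) - n) * rX n +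
      rE n ^ ((2 * (i.val + 1) - 4) * 2 ^ klog n (i.val + 1)) *
        ∑ t ∈ Finset.range (klog n (i.val + 1)), rE n ^ (2 ^ klog n (i.val + 1) - 2 ^ (t + 1)) * rU n ^ 2 ^ t)
  linear_combination h - h2

/-- the spanning family -/
def Gd (hn : 2 ≤ n) : Type := {d : Box n // a1 hn d % 2 = 0 ∨ q0 hn d + 1 = n}

/-- low part -/
noncomputable def lowR (n q a : ℕ) : R n :=
  if a % 2 = 0 then rE n ^ q * rU n ^ (a / 2) else rX n * rU n ^ (a / 2)

/-- the spanning vectors -/
noncomputable def M (hn : 2 ≤ n) (d : Gd hn) : R n :=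
  lowR n (q0 hn d.1) (a1 hn d.1) * tailR n d.1

/-- the span -/
noncomputable def T (hn : 2 ≤ n) : Submodule (ZMod 2) (R n) :=
  Submodule.span (ZMod 2) (Set.range (M hn))

theorem tailR_setLow (hn : 2 ≤ n) (d : Box n) (q a : ℕ) (hq : q < n) (ha : a < 2 ^ klog n 2) :
    tailR n (setLow hn d q a hq ha) = tailR n d := by
  refine Finset.prod_congr rfl fun i _ => ?_
  by_cases hi : i.val < 2
  · simp [rB, hi]
  · simp [setLow, show i.val ≠ 0 by omega, show i.val ≠ 1 by omega]

theorem even_mem (hn : 2 ≤ n) (d : Box n) (q : ℕ) {c : ℕ} (hc : 2 * c < 2 ^ klog n 2) :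
    rE n ^ q * rU n ^ c * tailR n d ∈ T hn := by
  by_cases hq : q < n
  · refine Submodule.subset_span ⟨⟨setLow hn d q (2 * c) hq hc, .inl (by rw [a1_setLow]; omega)⟩, ?_⟩
    simp [M, lowR, q0_setLow, a1_setLow, tailR_setLow]
  · rw [rE_pow (not_lt.1 hq), zero_mul, zero_mul]; exact zero_mem _

theorem odd_mem (hn : 2 ≤ n) (d : Box n) (q : ℕ) {c : ℕ} (hc : 2 * c < 2 ^ klog n 2) :
    rE n ^ q * (rX n * rU n ^ c) * tailR n d ∈ T hn := by
  rcases q with _ | q
  · have hev : 2 ^ klog n 2 % 2 = 0 := by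
      obtain ⟨k, hk⟩ : ∃ k, klog n 2 = k + 1 := ⟨klog n 2 - 1, by have := (bound_one hn).2.1; omega⟩
      rw [hk, pow_succ]; omega
    refine Submodule.subset_span ⟨⟨setLow hn d (n - 1) (2 * c + 1) (by omega) (by omega),
      .inr (by rw [q0_setLow]; omega)⟩, ?_⟩
    simp [M, lowR, q0_setLow, a1_setLow, tailR_setLow, show (2 * c + 1) % 2 ≠ 0 by omega,
      show (2 * c + 1) / 2 = c by omega]
  · rw [pow_succ, mul_assoc (rE n ^ q) (rE n), ← mul_assoc (rE n) (rX n), rE_rX, zero_mul, mul_zero, zero_mul]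
    exact zero_mem _

theorem closed_of (hn : 2 ≤ n) (g : R n)
    (he : ∀ d q c, 2 * c < 2 ^ klog n 2 → g * (rE n ^ q * rU n ^ c * tailR n d) ∈ T hn)
    (ho : ∀ d c, 2 * c < 2 ^ klog n 2 → g * (rX n * rU n ^ c * tailR n d) ∈ T hn)
    {w : R n} (hw : w ∈ T hn) : g * w ∈ T hn := by
  induction hw using Submodule.span_induction with
  | mem w hw =>
    obtain ⟨d, rfl⟩ := hw
    have ha := a1_lt hn d.1
    rw [M, lowR]
    split_ifs with h
    · exact he _ _ _ (by omega)
    · exact ho _ _ (by omega)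
  | zero => simp
  | add x y _ _ hx hy => rw [mul_add]; exact add_mem hx hy
  | smul c x _ hx => rw [mul_smul_comm]; exact Submodule.smul_mem _ c hx

theorem rE_mul_mem (hn : 2 ≤ n) {w : R n} (hw : w ∈ T hn) : rE n * w ∈ T hn := by
  refine closed_of hn _ (fun d q c hc => ?_) (fun d c hc => ?_) hw
  · rw [← mul_assoc, ← mul_assoc, ← pow_succ']; exact even_mem hn d _ hc
  · rw [← mul_assoc, ← mul_assoc, rE_rX, zero_mul, zero_mul]; exact zero_mem _

theorem rE_pow_mul_mem (hn : 2 ≤ n) (q : ℕ) {w : R n} (hw : w ∈ T hn) : rE n ^ q * w ∈ T hn := by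
  induction q with
  | zero => simpa
  | succ q ih => rw [pow_succ', mul_assoc]; exact rE_mul_mem hn ih

theorem rX_mul_mem (hn : 2 ≤ n) {w : R n} (hw : w ∈ T hn) : rX n * w ∈ T hn := by
  refine closed_of hn _ (fun d q c hc => ?_) (fun d c hc => ?_) hw
  · rw [show rX n * (rE n ^ q * rU n ^ c * tailR n d) = rE n ^ q * (rX n * rU n ^ c) * tailR n d by ring]
    exact odd_mem hn d q hc
  · rw [← mul_assoc, ← mul_assoc, rX_sq, zero_mul, zero_mul]; exact zero_mem _

theorem rU_pow_mem (hn : 2 ≤ n) (d : Box n) {c : ℕ} (hc : c ≤ 2 ^ (klog n 2 - 1)) :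
    rU n ^ c * tailR n d ∈ T hn := by
  obtain ⟨k, hk⟩ : ∃ k, klog n 2 = k + 1 := ⟨klog n 2 - 1, by have := (bound_one hn).2.1; omega⟩
  have hlt : ∀ c < 2 ^ k, rU n ^ c * tailR n d ∈ T hn := fun c hc => by
    simpa using even_mem hn d 0 (c := c) (by rw [hk, pow_succ]; omega)
  rw [hk, Nat.add_sub_cancel] at hc
  rcases lt_or_eq_of_le hc with hc | rfl
  · exact hlt c hc
  · have h := rU_top hn
    rw [hk, Nat.add_sub_cancel] at h
    rw [h, add_mul, Finset.sum_mul]
    refine add_mem ?_ (Submodule.sum_mem _ fun t ht => ?_)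
    · rw [mul_assoc]; exact rE_pow_mul_mem hn _ (rX_mul_mem hn (by simpa using hlt 0 (by positivity)))
    · rw [mul_assoc]
      exact rE_pow_mul_mem hn _ (hlt _ (Nat.pow_lt_pow_right one_lt_two (Finset.mem_range.1 ht)))

theorem rU_mul_mem (hn : 2 ≤ n) {w : R n} (hw : w ∈ T hn) : rU n * w ∈ T hn := by
  obtain ⟨k, hk⟩ : ∃ k, klog n 2 = k + 1 := ⟨klog n 2 - 1, by have := (bound_one hn).2.1; omega⟩
  refine closed_of hn _ (fun d q c hc => ?_) (fun d c hc => ?_) hw
  · rw [show rU n * (rE n ^ q * rU n ^ c * tailR n d) = rE n ^ q * (rU n ^ (c + 1) * tailR n d) by ring]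
    exact rE_pow_mul_mem hn _ (rU_pow_mem hn d (by rw [hk, pow_succ] at hc; rw [hk, Nat.add_sub_cancel]; omega))
  · rw [show rU n * (rX n * rU n ^ c * tailR n d) = rX n * (rU n ^ (c + 1) * tailR n d) by ring]
    exact rX_mul_mem hn (rU_pow_mem hn d (by rw [hk, pow_succ] at hc; rw [hk, Nat.add_sub_cancel]; omega))

theorem rU_pow_mul_mem (hn : 2 ≤ n) (c : ℕ) {w : R n} (hw : w ∈ T hn) : rU n ^ c * w ∈ T hn := by
  induction c with
  | zero => simpa
  | succ c ih => rw [pow_succ', mul_assoc]; exact rU_mul_mem hn ih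

theorem rB_mul_tail (hn : 2 ≤ n) (i : Fin (numVars n)) (hi : 2 ≤ i.val) (d : Box n) :
    rB n i * tailR n d ∈ T hn := by
  classical
  have hsplit : ∀ d : Box n, tailR n d =
      rB n i ^ (d i).val * ∏ j ∈ Finset.univ.erase i, rB n j ^ (d j).val := fun d =>
    (Finset.mul_prod_erase _ _ (Finset.mem_univ i)).symm
  have hupd : ∀ v : Fin (bound n i), tailR n (Function.update d i v) =
      rB n i ^ v.val * ∏ j ∈ Finset.univ.erase i, rB n j ^ (d j).val := fun v => by
    rw [hsplit, Function.update_self]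
    congr 1
    refine Finset.prod_congr rfl fun j hj => ?_
    rw [Function.update_of_ne (Finset.ne_of_mem_erase hj)]
  have hbase : ∀ d : Box n, tailR n d ∈ T hn := fun d => by
    simpa using even_mem hn d 0 (c := 0) (by positivity)
  rw [hsplit d, ← mul_assoc, ← pow_succ']
  by_cases hv : (d i).val + 1 < bound n i
  · have := hbase (Function.update d i ⟨_, hv⟩)
    rwa [hupd] at this
  · have hv' : (d i).val + 1 = bound n i := by have := (d i).isLt; omega
    have h0 := hbase (Function.update d i ⟨0, Nat.pos_of_ne_zero (by omega)⟩)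
    rw [hupd, pow_zero, one_mul] at h0
    rw [hv', rB_top hn i hi, add_mul]
    refine add_mem ?_ ?_
    · rw [mul_assoc]; exact rE_pow_mul_mem hn _ (rX_mul_mem hn h0)
    · rw [mul_assoc, Finset.sum_mul]
      refine rE_pow_mul_mem hn _ (Submodule.sum_mem _ fun t _ => ?_)
      rw [mul_assoc]
      exact rE_pow_mul_mem hn _ (rU_pow_mul_mem hn _ h0)

theorem rB_mul_mem (hn : 2 ≤ n) (i : Fin (numVars n)) (hi : 2 ≤ i.val) {w : R n} (hw : w ∈ T hn) :
    rB n i * w ∈ T hn := by
  refine closed_of hn _ (fun d q c _ => ?_) (fun d c _ => ?_) hw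
  · rw [show rB n i * (rE n ^ q * rU n ^ c * tailR n d) = rE n ^ q * (rU n ^ c * (rB n i * tailR n d)) by ring]
    exact rE_pow_mul_mem hn _ (rU_pow_mul_mem hn _ (rB_mul_tail hn i hi d))
  · rw [show rB n i * (rX n * rU n ^ c * tailR n d) = rX n * (rU n ^ c * (rB n i * tailR n d)) by ring]
    exact rX_mul_mem hn (rU_pow_mul_mem hn _ (rB_mul_tail hn i hi d))

theorem mem_T (hn : 2 ≤ n) (f : FreeE n) : mkR n f ∈ T hn := by
  have h1 : (1 : R n) ∈ T hn := by
    let d : Box n := fun i => ⟨0, by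
      rcases Nat.eq_zero_or_pos i.val with h | h
      · simp [bound, h]; omega
      · rw [bound_ge_two h]; positivity⟩
    have := even_mem hn d 0 (c := 0) (by positivity)
    simpa [tailR, d] using this
  induction f using MvPolynomial.induction_on with
  | C a => rw [← algebraMap_eq, AlgHom.commutes, Algebra.algebraMap_eq_smul_one]; exact Submodule.smul_mem _ _ h1
  | add p q hp hq => rw [map_add]; exact add_mem hp hq
  | mul_X p v hp =>
    rw [map_mul, mul_comm]
    rcases v with _ | i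
    · exact rX_mul_mem hn hp
    · rw [← evar_eq i]
      by_cases h0 : i.val = 0
      · rw [h0]; exact rE_mul_mem hn hp
      by_cases h1 : i.val = 1
      · rw [h1]; exact rU_mul_mem hn hp
      · have h := rB_mul_mem hn i (by omega) hp
        rwa [rB, if_neg (by omega), ← evar_eq] at h

theorem ker_phi (hn : 2 ≤ n) : RingHom.ker (phi n) = presIdeal n := by
  refine le_antisymm (fun f hf => ?_) (presIdeal_le hn)
  let ψ : R n →ₐ[ZMod 2] QsChow.P n := Ideal.Quotient.liftₐ (presIdeal n) (phi n) fun a ha => presIdeal_le hn ha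
  have hψ : ∀ g, ψ (mkR n g) = phi n g := fun g => rfl
  have hB : ∀ i, ψ (rB n i) = gB n i := fun i => by
    by_cases h : i.val < 2
    · simp [rB, gB, h]
    · rw [rB, if_neg h, hψ, ← evar_eq, phi_evar]
      simp [genImage, gB, h, show i.val ≠ 0 by omega, show i.val ≠ 1 by omega]
  have hM : ∀ d : Gd hn, ψ (M hn d) = fam hn d.1 := fun d => by
    have ht : ψ (tailR n d.1) = tail n d.1 := by simp only [tailR, tail, map_prod, map_pow, hB]
    rw [M, map_mul, ht, fam_eq, vec, lowR, low]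
    rcases Nat.mod_two_eq_zero_or_one (a1 hn d.1) with h | h
    · rw [if_pos h, h, map_mul, map_pow, map_pow, hψ, hψ, phi_e1 hn, phi_e2 hn, pow_zero, mul_one]
    · have hq : q0 hn d.1 = n - 1 := by rcases d.2 with h' | h' <;> omega
      rw [if_neg (by omega), h, map_mul, map_pow, hψ, hψ, phi_x, phi_e2 hn, pow_one, hq]
      ring
  haveI : Fintype (Gd hn) := by unfold Gd; classical infer_instance
  obtain ⟨c, hc⟩ := (Submodule.mem_span_range_iff_exists_fun (ZMod 2)).1 (mem_T hn f)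
  rw [RingHom.mem_ker, ← hψ, ← hc, map_sum] at hf
  simp only [map_smul, hM] at hf
  have hli : LinearIndependent (ZMod 2) (fun d : Gd hn => fam hn d.1) :=
    (fam_independent hn).comp _ Subtype.val_injective
  have hz := Fintype.linearIndependent_iff.1 hli c hf
  rw [← Ideal.Quotient.eq_zero_iff_mem]
  change mkR n f = 0
  rw [← hc]
  simp [hz]

end Groth.Agent.QsPn
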